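import Mathlib
import Cfsg.Agent.Nodes.Unique
import Cfsg.Agent.Nodes.Coroot
import Cfsg.Agent.Nodes.OppDec
import Cfsg.Agent.KFacts.RgdBorelTits
import Cfsg.Agent.Prune
set_option linter.all false
prune_inst 0x7f00000000000000000000000000000000000000000000000000000000000000000000000000000000000000000000000000000000000000000000000000000000000000000000000000000000000000003fffffffffffffffffffffffffffbeffbdffffffff
open scoped Cfsg.Agent.FastGrp

/-!
# Root combinatorics (helper355)

* `form_sq_lt` : strict Cauchy-Schwarz for non-proportional roots;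
* `exists_pos_pair` : two roots which are not opposite are positive for some chamber;
* `exists_orth`, `exists_orth_two` : roots orthogonal to a given root.
-/

set_option autoImplicit false
set_option linter.unusedSectionVars false

namespace Cfsg.Agent.H355.Rgd

open CoxeterSystem Cfsg.Agent.ChevalleyStructure.CoxeterGeom Cfsg.Agent.Tits.Roots Cfsg.Agent.Tits.Core
  Cfsg.Agent.Tits.RootComb Cfsg.Agent.Nodes.Comb Cfsg.Agent.Nodes.Reps Cfsg.Agent.Nodes.BNOf
  Cfsg.Agent.Nodes.Unique Cfsg.Agent.Nodes.Coroot

variable {I W : Type*} [Fintype I] [DecidableEq I] [Group W] {M : CoxeterMatrix I}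
  {cs : CoxeterSystem M W} {A : I → I → ℤ} {h : IsCartan M A}

/-- proportional roots are equal or opposite -/
theorem eq_or_neg {x z : I → ℤ} (hx : IsRoot cs h x) (hz : IsRoot cs h z) {a b : ℤ} (ha : 0 < a)
    (he : a • z = b • x) : z = x ∨ z = -x := by
  rcases lt_trichotomy b 0 with hb | hb | hb
  · right
    refine eq_of_ray hz hx.neg ha (b := -b) (by linarith) ?_
    rw [he, smul_neg, neg_smul, neg_neg]
  · exfalso
    rw [hb, zero_smul] at he
    exact hz.ne_zero ((smul_eq_zero.1 he).resolve_left ha.ne')
  · left
    exact eq_of_ray hz hx ha hb he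

/-- strict Cauchy-Schwarz -/
theorem form_sq_lt [Fintype W] {x z : I → ℤ} (hx : IsRoot cs h x) (hz : IsRoot cs h z) (h1 : z ≠ x) (h2 : z ≠ -x) :
    form cs h x z * form cs h x z < form cs h x x * form cs h z z := by
  have hxx := form_pos cs h hx.ne_zero
  set u : I → ℤ := form cs h x x • z - form cs h x z • x with hu
  have hu0 : u ≠ 0 := by
    intro h0
    rcases eq_or_neg hx hz hxx (sub_eq_zero.1 h0) with h3 | h3
    · exact h1 h3
    · exact h2 h3
  have h3 := form_pos cs h hu0
  have h4 : form cs h u u = form cs h x x * (form cs h x x * form cs h z z - form cs h x z * form cs h x z) := by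
    rw [hu]
    simp only [form_sub_left, form_sub_right, form_smul_left, form_smul_right]
    rw [form_comm cs h z x]
    ring
  rw [h4] at h3
  have h5 := (mul_pos_iff_of_pos_left hxx).1 h3
  linarith

/-- two roots which are not opposite are positive for some chamber -/
theorem exists_pos_pair [Finite W] {x z : I → ℤ} (hx : IsRoot cs h x) (hz : IsRoot cs h z) (h2 : z ≠ -x) :
    ∃ w : W, 0 ≤ rep cs h w x ∧ 0 ≤ rep cs h w z := by
  have := Fintype.ofFinite W
  have key : ∀ v : I → ℤ, 0 < form cs h v x → 0 < form cs h v z →
      ∃ w : W, 0 ≤ rep cs h w x ∧ 0 ≤ rep cs h w z := by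
    intro v h3 h4
    obtain ⟨w, hw⟩ := exists_dom_rep (cs := cs) (h := h) v
    refine ⟨w, ?_, ?_⟩
    · rcases (hx.act w).pos_or_neg with h5 | h5
      · exact h5
      · exfalso
        have h6 := form_nonneg_of_dom cs h hw (neg_nonneg.2 h5)
        rw [form_neg_right, form_rep] at h6
        linarith
    · rcases (hz.act w).pos_or_neg with h5 | h5
      · exact h5
      · exfalso
        have h6 := form_nonneg_of_dom cs h hw (neg_nonneg.2 h5)
        rw [form_neg_right, form_rep] at h6
        linarith
  by_cases h1 : z = x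
  · subst h1
    exact key z (form_pos cs h hx.ne_zero) (form_pos cs h hx.ne_zero)
  · have h3 := form_sq_lt hx hz h1 h2
    refine key ((form cs h z z - form cs h x z) • x + (form cs h x x - form cs h x z) • z) ?_ ?_
    · rw [form_add_left, form_smul_left, form_smul_left, form_comm cs h z x]
      nlinarith
    · rw [form_add_left, form_smul_left, form_smul_left]
      nlinarith

/-! ### Orthogonal roots -/

theorem cpr_mul_form [Fintype W] {x y : I → ℤ} (hx : IsRoot cs h x) (hy : IsRoot cs h y) :
    cpr cs h x y * cpr cs h y x * (form cs h x x * form cs h y y) = 4 * (form cs h x y * form cs h x y) := by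
  have h1 := two_form_cpr cs h x hy
  have h2 := two_form_cpr cs h y hx
  rw [form_comm cs h y x] at h2
  calc cpr cs h x y * cpr cs h y x * (form cs h x x * form cs h y y) =
      (cpr cs h x y * form cs h y y) * (cpr cs h y x * form cs h x x) := by ring
    _ = _ := by rw [← h1, ← h2]; ring

/-- the product of the two coefficients of non-proportional roots is `0, 1, 2, 3` -/
theorem cpr_mul_lt [Fintype W] {x y : I → ℤ} (hx : IsRoot cs h x) (hy : IsRoot cs h y) (h1 : y ≠ x) (h2 : y ≠ -x) :
    0 ≤ cpr cs h x y * cpr cs h y x ∧ cpr cs h x y * cpr cs h y x < 4 := by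
  have h3 := cpr_mul_form hx hy
  have h4 := form_sq_lt hx hy h1 h2
  have h5 := mul_pos (form_pos cs h hx.ne_zero) (form_pos cs h hy.ne_zero)
  constructor
  · by_contra hcon
    push Not at hcon
    have h6 := mul_neg_of_neg_of_pos hcon h5
    have h7 := mul_self_nonneg (form cs h x y)
    linarith
  · by_contra hcon
    push Not at hcon
    have h6 := mul_le_mul_of_nonneg_right hcon h5.le
    linarith

/-- If the product of the two coefficients is two or three, there is a root orthogonal to `x` in the plane. -/
theorem exists_orth_plane [Fintype W] {x y : I → ℤ} (hx : IsRoot cs h x) (hy : IsRoot cs h y)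
    (h2 : cpr cs h x y * cpr cs h y x = 2 ∨ cpr cs h x y * cpr cs h y x = 3) :
    ∃ β, IsRoot cs h β ∧ form cs h x β = 0 ∧ ∃ a b : ℤ, β = a • x + b • y ∧ b ≠ 0 := by
  have h3 := two_form_cpr cs h x hy
  have h4 := two_form_cpr cs h y hx
  rw [form_comm cs h y x] at h4
  rcases h2 with h2 | h2
  · refine ⟨x - cpr cs h x y • y, isRoot_refl cs h hx hy, ?_, 1, -cpr cs h x y, ?_, ?_⟩
    · rw [form_sub_right, form_smul_right]
      have h5 : 2 * (form cs h x x - cpr cs h x y * form cs h x y) = 0 := by
        calc 2 * (form cs h x x - cpr cs h x y * form cs h x y) =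
            2 * form cs h x x - cpr cs h x y * (2 * form cs h x y) := by ring
          _ = 2 * form cs h x x - (cpr cs h x y * cpr cs h y x) * form cs h x x := by rw [h4]; ring
          _ = 0 := by rw [h2]; ring
      omega
    · rw [one_smul, neg_smul, sub_eq_add_neg]
    · intro h5
      rw [neg_eq_zero] at h5
      rw [h5, zero_mul] at h2
      exact absurd h2 (by decide)
  · -- `s_y s_x y`
    have hz := isRoot_refl cs h hy hx
    have hw := isRoot_refl cs h hz hy
    have e : cpr cs h (y - cpr cs h y x • x) y = 2 - cpr cs h y x * cpr cs h x y := by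
      rw [sub_eq_add_neg, cpr_add cs h _ _ hy, cpr_neg cs h _ hy, cpr_smul cs h _ _ hy, cpr_self cs h hy]
      ring
    rw [e] at hw
    have h2' : cpr cs h y x * cpr cs h x y = 3 := by rw [mul_comm]; exact h2
    rw [h2'] at hw
    refine ⟨_, hw, ?_, -cpr cs h y x, 2, ?_, by decide⟩
    · rw [form_sub_right, form_sub_right, form_smul_right, form_smul_right]
      have h5 : 2 * (form cs h x y - cpr cs h y x * form cs h x x - (2 - 3) * form cs h x y) = 0 := by
        calc 2 * (form cs h x y - cpr cs h y x * form cs h x x - (2 - 3) * form cs h x y) =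
            2 * (2 * form cs h x y - cpr cs h y x * form cs h x x) := by ring
          _ = 0 := by rw [h4]; ring
      omega
    · rw [neg_smul]
      have : (2 - 3 : ℤ) • y = -y := by
        rw [show (2 - 3 : ℤ) = -1 from rfl, neg_one_smul]
      rw [this, two_smul]
      abel

/-- `P` : the roots outside `S` are never orthogonal to `x` -/
theorem norm_eq_of_one [Fintype W] {x y : I → ℤ} (hx : IsRoot cs h x) (hy : IsRoot cs h y)
    (h1 : cpr cs h x y * cpr cs h y x = 1) :
    cpr cs h x y = cpr cs h y x ∧ form cs h x x = form cs h y y := by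
  have h2 : cpr cs h x y = cpr cs h y x := by
    rcases Int.eq_one_or_neg_one_of_mul_eq_one' h1 with ⟨h2, h3⟩ | ⟨h2, h3⟩ <;> rw [h2, h3]
  refine ⟨h2, ?_⟩
  have h3 := two_form_cpr cs h x hy
  have h4 := two_form_cpr cs h y hx
  rw [form_comm cs h y x, h3, h2] at h4
  refine (mul_left_cancel₀ ?_ h4).symm
  intro h5
  rw [h2, h5, zero_mul] at h1
  exact absurd h1 (by decide)

/-- **The three vector argument**: `y`, `y'` and `x` independent, both in `A₂`-position with `x`, give a root
orthogonal to `x` which is `y - y'`, `x - y - y'` (up to the signs of `y`, `y'`). -/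
theorem exists_orth_triple [Fintype W] {x y y' : I → ℤ} (hx : IsRoot cs h x) (hy : IsRoot cs h y)
    (hy' : IsRoot cs h y') (h1 : cpr cs h y x = 1) (h1' : cpr cs h y' x = 1) (hxy : cpr cs h x y = 1)
    (hxy' : cpr cs h x y' = 1) (hne : y ≠ y') (hne' : y ≠ -y') (hx' : x ≠ y + y') :
    (IsRoot cs h (y - y') ∧ form cs h x (y - y') = 0) ∨
      (IsRoot cs h (x - y - y') ∧ form cs h x (x - y - y') = 0) := by
  obtain ⟨-, n1⟩ := norm_eq_of_one hx hy (by rw [h1, hxy, one_mul])
  obtain ⟨-, n2⟩ := norm_eq_of_one hx hy' (by rw [h1', hxy', one_mul])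
  have f1 := two_form_cpr cs h x hy
  have f2 := two_form_cpr cs h x hy'
  have f3 := two_form_cpr cs h y hy'
  rw [hxy, one_mul] at f1
  rw [hxy', one_mul] at f2
  have hc := cpr_mul_lt hy' hy hne (by
    intro h3; exact hne' h3)
  have hcs : cpr cs h y' y = cpr cs h y y' := by
    have f4 := two_form_cpr cs h y' hy
    rw [form_comm cs h y' y, f3, ← n1, ← n2] at f4
    exact (mul_right_cancel₀ (form_pos cs h hx.ne_zero).ne' f4).symm
  rw [hcs] at hc
  have hcases : cpr cs h y y' = 1 ∨ cpr cs h y y' = 0 ∨ cpr cs h y y' = -1 := by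
    have h5 : cpr cs h y y' < 2 := by nlinarith
    have h6 : -2 < cpr cs h y y' := by nlinarith
    omega
  rcases hcases with h3 | h3 | h3
  · left
    constructor
    · have := isRoot_refl cs h hy hy'
      rwa [h3, one_smul] at this
    · rw [form_sub_right]
      omega
  · right
    constructor
    · have h4 := isRoot_refl cs h hx hy
      rw [hxy, one_smul] at h4
      have h5 := isRoot_refl cs h h4 hy'
      have h6 : cpr cs h (x - y) y' = 1 := by
        rw [sub_eq_add_neg, cpr_add cs h _ _ hy', cpr_neg cs h _ hy', hxy', h3]; norm_num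
      rwa [h6, one_smul] at h5
    · rw [form_sub_right, form_sub_right]
      omega
  · exfalso
    apply hx'
    rw [h3] at f3
    have h4 : form cs h (x - (y + y')) (x - (y + y')) = 0 := by
      rw [form_sub_left, form_sub_right, form_sub_right, form_add_right, form_add_left, form_add_left,
        form_add_right, form_add_right, form_comm cs h y x, form_comm cs h y' x, form_comm cs h y' y]
      omega
    by_contra h5
    exact (form_pos cs h (sub_ne_zero.2 h5)).ne' h4

end Cfsg.Agent.H355.Rgd

private theorem dce_5c2c2b11be18 : _root_.True := by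
  try have : _root_.True := by simp only [_root_.Cfsg.Agent.Nodes.Coroot.cpr.congr_simp]
  exact _root_.True.intro
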