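import Mathlib
import Cfsg.Agent.Blocks.SemiregularGram
import Cfsg.Agent.CharactersDeep.NormalInd
import Cfsg.Agent.CharactersDeep.IndFun
import Cfsg.Agent.Characters.Central
import Cfsg.Agent.Classification.BSW.CharTools
import Cfsg.Agent.H355.RgdRoots
import Cfsg.Agent.KFacts.RgdFilt
import Cfsg.Agent.KFacts.RgdFiltClass
import Cfsg.Agent.KFacts.RgdFiltChev
import Cfsg.Agent.KFacts.RgdFiltTwAll
import Cfsg.Agent.FastGrp
import Cfsg.Agent.Prune
set_option linter.all false

section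
prune_inst 0x7ffcfefaafa80ddedfff7e3ffe99dffc30c0cfffe6fffd437fe0e9bf0b9f03002b85fb878de050ff1e77e21410387813f97eea3fe06bdc7ff3fd1ff41ffbee0fe5f7350851dc98b40fbc2ffe03f07f8a6f3fffffffffffffffffffffffffffbeffbffbfeffff

-- part: H355/Prod
section
prune_inst 0x101404080000000018000400002000000000900000880010400640020610442000000140a008180008880000000020004c0090400000c00e000000000500000028120010400000200010003002000000000000000000000000000000041004000000000
set_option linter.all false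
open scoped Cfsg.Agent.FastGrp

-- part: H355/TIHall
section
/-!
# TI subgroups of odd order and index two in their normalizer (helper355)

`TIH D` : `D ≠ 1` has odd order, meets its other conjugates trivially and has index two in its normalizer.
These are exactly the two-point stabilizers of transitive groups of fixity two whose point stabilizers have odd
order.

* `TIH.mem_normalizer_of_commute`, `TIH.le_of_isPGroup`, `TIH.exists_conj_le` (Hall property, Sylow form),
  `TIH.coprime_index`;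
* `TIH.exists_involution`, `TIH.mul_mem_of_notMem`.
-/

set_option autoImplicit false
set_option linter.unusedSectionVars false

open scoped Pointwise

namespace Cfsg.Agent.H355.TIHall

variable {G : Type*} [Group G]

/-- TI subgroups of odd order and index two in their normalizer. -/
structure TIH (D : Subgroup G) : Prop where
  ne_bot : D ≠ ⊥
  odd : Odd (Nat.card D)
  ti : ∀ g d : G, d ∈ D → d ≠ 1 → g * d * g⁻¹ ∈ D → g ∈ Subgroup.normalizer (D : Set G)
  idx : D.relIndex (Subgroup.normalizer (D : Set G)) = 2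

namespace TIH

variable {D : Subgroup G} (h : TIH D)

include h

theorem exists_ne_one : ∃ d ∈ D, d ≠ 1 := by
  by_contra hcon
  push Not at hcon
  exact h.ne_bot ((Subgroup.eq_bot_iff_forall _).2 hcon)

theorem mem_normalizer_of_commute {g d : G} (hd : d ∈ D) (hd1 : d ≠ 1) (hgd : g * d = d * g) :
    g ∈ Subgroup.normalizer (D : Set G) := by
  refine h.ti g d hd hd1 ?_
  rw [hgd, mul_inv_cancel_right]
  exact hd

theorem le_normalizer : D ≤ Subgroup.normalizer (D : Set G) := Subgroup.le_normalizer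

/-- products of two elements of `N(D)` outside `D` are in `D` -/
theorem mul_mem_of_notMem {a b : G} (ha : a ∈ Subgroup.normalizer (D : Set G)) (ha' : a ∉ D)
    (hb : b ∈ Subgroup.normalizer (D : Set G)) (hb' : b ∉ D) : a * b ∈ D := by
  have hidx : (D.subgroupOf (Subgroup.normalizer (D : Set G))).index = 2 := h.idx
  have h1 := Subgroup.mul_mem_iff_of_index_two hidx
    (a := (⟨a, ha⟩ : Subgroup.normalizer (D : Set G))) (b := ⟨b, hb⟩)
  rw [Subgroup.mem_subgroupOf, Subgroup.mem_subgroupOf, Subgroup.mem_subgroupOf] at h1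
  exact h1.2 ⟨fun h2 => absurd h2 ha', fun h2 => absurd h2 hb'⟩

theorem sq_mem {a : G} (ha : a ∈ Subgroup.normalizer (D : Set G)) : a ^ 2 ∈ D := by
  by_cases ha' : a ∈ D
  · exact pow_mem ha' 2
  · rw [pow_two]
    exact h.mul_mem_of_notMem ha ha' ha ha'

theorem mem_of_odd {a : G} (ha : a ∈ Subgroup.normalizer (D : Set G)) (ho : Odd (orderOf a)) : a ∈ D := by
  have h1 : a ∈ Subgroup.zpowers (a ^ 2) := by
    rw [mem_zpowers_pow_iff]
    exact (Nat.coprime_two_right.2 ho).symm
  exact (Subgroup.zpowers_le.2 (h.sq_mem ha)) h1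

theorem odd_orderOf {a : G} (ha : a ∈ D) : Odd (orderOf a) :=
  h.odd.of_dvd_nat (Subgroup.orderOf_dvd_natCard D ha)

section Finite

variable [Finite G]

theorem card_normalizer : Nat.card (Subgroup.normalizer (D : Set G)) = 2 * Nat.card D := by
  have h1 := Subgroup.card_mul_index (D.subgroupOf (Subgroup.normalizer (D : Set G)))
  have h2 : (D.subgroupOf (Subgroup.normalizer (D : Set G))).index = 2 := h.idx
  rw [h2] at h1
  have h3 : Nat.card (D.subgroupOf (Subgroup.normalizer (D : Set G))) = Nat.card D :=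
    Nat.card_congr (Subgroup.subgroupOfEquivOfLe h.le_normalizer).toEquiv
  rw [h3] at h1
  rw [← h1]; ring

/-- There is an involution in `N(D)`, not in `D`. -/
theorem exists_involution : ∃ y ∈ Subgroup.normalizer (D : Set G), y ∉ D ∧ orderOf y = 2 := by
  classical
  have hdvd : 2 ∣ Nat.card (Subgroup.normalizer (D : Set G)) := ⟨_, h.card_normalizer⟩
  have : Fact (Nat.Prime 2) := ⟨Nat.prime_two⟩
  obtain ⟨y, hy⟩ := exists_prime_orderOf_dvd_card' 2 hdvd
  refine ⟨y, y.2, fun hyD => ?_, ?_⟩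
  · have h1 := h.odd_orderOf hyD
    rw [Subgroup.orderOf_coe, hy] at h1
    exact absurd h1 (by decide)
  · rw [Subgroup.orderOf_coe, hy]

/-- A `p`-subgroup meeting `D` nontrivially is contained in `D`. -/
theorem le_of_isPGroup {p : ℕ} [hp : Fact p.Prime] {P : Subgroup G} (hP : IsPGroup p P) {d : G}
    (hdP : d ∈ P) (hdD : d ∈ D) (hd1 : d ≠ 1) : P ≤ D := by
  classical
  have hp2 : p ≠ 2 := by
    rintro rfl
    obtain ⟨k, hk⟩ := hP ⟨d, hdP⟩
    have hk' : d ^ 2 ^ k = 1 := congrArg Subtype.val hk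
    have h1 := h.odd_orderOf hdD
    obtain ⟨j, -, hj⟩ := (Nat.dvd_prime_pow Nat.prime_two).1 (orderOf_dvd_of_pow_eq_one hk')
    rw [hj] at h1
    rcases Nat.eq_zero_or_pos j with hj0 | hj0
    · rw [hj0, pow_zero] at hj
      exact hd1 (orderOf_eq_one_iff.1 hj)
    · exact absurd h1 (Nat.not_odd_iff_even.2 ((even_two).pow_of_ne_zero hj0.ne'))
  have hoddP : ∀ x ∈ P, Odd (orderOf x) := by
    intro x hx
    obtain ⟨k, hk⟩ := hP ⟨x, hx⟩
    have hk' : x ^ p ^ k = 1 := congrArg Subtype.val hk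
    have h1 : Odd (p ^ k) := (hp.1.odd_of_ne_two hp2).pow
    exact h1.of_dvd_nat (orderOf_dvd_of_pow_eq_one hk')
  have : Nontrivial P := ⟨⟨⟨d, hdP⟩, 1, fun h1 => hd1 (congrArg Subtype.val h1)⟩⟩
  have hZ : Nontrivial (Subgroup.center P) := hP.center_nontrivial
  obtain ⟨⟨z, hz⟩, hz1⟩ := exists_ne (1 : Subgroup.center P)
  have hzc : ∀ x ∈ P, x * (z : G) = z * x := fun x hx =>
    congrArg Subtype.val (Subgroup.mem_center_iff.1 hz ⟨x, hx⟩)
  have hz1' : (z : G) ≠ 1 := fun h1 => hz1 (Subtype.ext (Subtype.ext h1))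
  have hzN : (z : G) ∈ Subgroup.normalizer (D : Set G) :=
    h.mem_normalizer_of_commute hdD hd1 (hzc d hdP).symm
  have hzD : (z : G) ∈ D := h.mem_of_odd hzN (hoddP z z.2)
  intro x hx
  exact h.mem_of_odd (h.mem_normalizer_of_commute hzD hz1' (hzc x hx)) (hoddP x hx)

/-- A Sylow `p`-subgroup of `D`, `p ∣ |D|`, is a Sylow `p`-subgroup of `G`; so every `p`-subgroup of `G` is
conjugate to a subgroup of `D`. -/
theorem exists_conj_le {p : ℕ} [hp : Fact p.Prime] (hpD : p ∣ Nat.card D) {P : Subgroup G}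
    (hP : IsPGroup p P) : ∃ g : G, ∀ x ∈ P, g * x * g⁻¹ ∈ D := by
  classical
  obtain ⟨d, hd⟩ := exists_prime_orderOf_dvd_card' p hpD
  have hd' : orderOf (d : G) = p := by rw [Subgroup.orderOf_coe, hd]
  have hdp : IsPGroup p (Subgroup.zpowers (d : G)) := by
    rw [IsPGroup.iff_card]
    exact ⟨1, by rw [Nat.card_zpowers, hd', pow_one]⟩
  obtain ⟨Q, hQ⟩ := hdp.exists_le_sylow
  have hdQ : (d : G) ∈ (Q : Subgroup G) := hQ (Subgroup.mem_zpowers _)
  have hd1 : (d : G) ≠ 1 := by
    intro h1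
    rw [h1, orderOf_one] at hd'
    exact hp.1.one_lt.ne hd'
  have hQD : (Q : Subgroup G) ≤ D := h.le_of_isPGroup Q.isPGroup' hdQ d.2 hd1
  obtain ⟨R, hR⟩ := hP.exists_le_sylow
  obtain ⟨g, hg⟩ := MulAction.exists_smul_eq G R Q
  refine ⟨g, fun x hx => hQD ?_⟩
  rw [← hg]
  show g * x * g⁻¹ ∈ ((MulAut.conj g • (R : Subgroup G) : Subgroup G))
  rw [Subgroup.mem_smul_pointwise_iff_exists]
  exact ⟨x, hR hx, rfl⟩

/-- `D` is a Hall subgroup. -/
theorem coprime_index : (Nat.card D).Coprime D.index := by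
  classical
  rw [Nat.coprime_iff_gcd_eq_one, Nat.eq_one_iff_not_exists_prime_dvd]
  intro p hp hdvd
  have : Fact p.Prime := ⟨hp⟩
  have h1 : p ∣ Nat.card D := hdvd.trans (Nat.gcd_dvd_left _ _)
  have h2 : p ∣ D.index := hdvd.trans (Nat.gcd_dvd_right _ _)
  let P : Sylow p G := default
  obtain ⟨g, hg⟩ := h.exists_conj_le h1 P.isPGroup'
  have h3 : ∃ Q : Sylow p G, (Q : Subgroup G) ≤ D := by
    refine ⟨g • P, ?_⟩
    intro x hx
    rw [Sylow.smul_def, Sylow.pointwise_smul_def, Subgroup.mem_smul_pointwise_iff_exists] at hx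
    obtain ⟨z, hz, rfl⟩ := hx
    exact hg z hz
  obtain ⟨Q, hQ⟩ := h3
  have h4 : ¬ p ∣ (Q : Subgroup G).index := Q.not_dvd_index
  exact h4 (h2.trans (Subgroup.index_dvd_of_le hQ))

theorem coprime_of_prime {p : ℕ} (hp : p.Prime) (hpD : ¬ p ∣ Nat.card D) {k : ℕ} :
    (Nat.card D).Coprime (p ^ k) := Nat.Coprime.pow_right _ ((Nat.Prime.coprime_iff_not_dvd hp).2 hpD).symm

/-- Conjugates. -/
theorem conj (g : G) : TIH (D.map (MulAut.conj g).toMonoidHom) := by
  have hN : Subgroup.normalizer ((D.map (MulAut.conj g).toMonoidHom : Subgroup G) : Set G) =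
      (Subgroup.normalizer (D : Set G)).map (MulAut.conj g).toMonoidHom := by
    ext x
    rw [Subgroup.mem_normalizer_iff, Subgroup.mem_map]
    constructor
    · intro hx
      refine ⟨g⁻¹ * x * g, ?_, by simp [mul_assoc]⟩
      rw [Subgroup.mem_normalizer_iff]
      intro d
      have h1 := hx (g * d * g⁻¹)
      rw [Subgroup.mem_map, Subgroup.mem_map] at h1
      constructor
      · intro hd
        obtain ⟨e, he, hee⟩ := h1.1 ⟨d, hd, rfl⟩
        have h2 : g⁻¹ * x * g * d * (g⁻¹ * x * g)⁻¹ = e := by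
          have h3 : g * e * g⁻¹ = x * (g * d * g⁻¹) * x⁻¹ := hee
          calc g⁻¹ * x * g * d * (g⁻¹ * x * g)⁻¹ = g⁻¹ * (x * (g * d * g⁻¹) * x⁻¹) * g := by group
            _ = g⁻¹ * (g * e * g⁻¹) * g := by rw [h3]
            _ = e := by group
        rw [h2]; exact he
      · intro hd
        obtain ⟨e, he, hee⟩ := h1.2 ⟨_, hd, by
          show g * (g⁻¹ * x * g * d * (g⁻¹ * x * g)⁻¹) * g⁻¹ = x * (g * d * g⁻¹) * x⁻¹
          group⟩
        have h3 : g * e * g⁻¹ = g * d * g⁻¹ := hee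
        have h4 : e = d := by simpa only [_root_.mul_left_inj, _root_.mul_right_inj] using h3
        rw [← h4]; exact he
    · rintro ⟨y, hy, rfl⟩
      rw [Subgroup.mem_normalizer_iff] at hy
      intro z
      rw [Subgroup.mem_map, Subgroup.mem_map]
      constructor
      · rintro ⟨d, hd, rfl⟩
        refine ⟨y * d * y⁻¹, (hy d).1 hd, ?_⟩
        show g * (y * d * y⁻¹) * g⁻¹ = g * y * g⁻¹ * (g * d * g⁻¹) * (g * y * g⁻¹)⁻¹
        group
      · rintro ⟨d, hd, hdz⟩
        have h3 : g * d * g⁻¹ = g * y * g⁻¹ * z * (g * y * g⁻¹)⁻¹ := hdz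
        refine ⟨y⁻¹ * d * y, (hy _).2 ?_, ?_⟩
        · have h4 : y * (y⁻¹ * d * y) * y⁻¹ = d := by group
          rw [h4]; exact hd
        · show g * (y⁻¹ * d * y) * g⁻¹ = z
          have h5 : z = (g * y * g⁻¹)⁻¹ * (g * d * g⁻¹) * (g * y * g⁻¹) := by rw [h3]; group
          rw [h5]; group
  refine ⟨?_, ?_, ?_, ?_⟩
  · intro h1
    apply h.ne_bot
    rwa [Subgroup.map_eq_bot_iff_of_injective _ (MulAut.conj g).injective] at h1
  · rw [Subgroup.card_map_of_injective (MulAut.conj g).injective]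
    exact h.odd
  · rintro x _ ⟨d, hd, rfl⟩ hd1 ⟨e, he, hee⟩
    rw [hN, Subgroup.mem_map]
    have h3 : g * e * g⁻¹ = x * (g * d * g⁻¹) * x⁻¹ := hee
    refine ⟨g⁻¹ * x * g, ?_, ?_⟩
    · refine h.ti _ d hd ?_ ?_
      · rintro rfl
        apply hd1
        simp
      · have h4 : g⁻¹ * x * g * d * (g⁻¹ * x * g)⁻¹ = e := by
          calc g⁻¹ * x * g * d * (g⁻¹ * x * g)⁻¹ = g⁻¹ * (x * (g * d * g⁻¹) * x⁻¹) * g := by group
            _ = g⁻¹ * (g * e * g⁻¹) * g := by rw [h3]
            _ = e := by group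
        rw [h4]; exact he
    · show g * (g⁻¹ * x * g) * g⁻¹ = x
      group
  · rw [hN, Subgroup.relIndex_map_map_of_injective _ _ (MulAut.conj g).injective]
    exact h.idx

end Finite

end TIH

end Cfsg.Agent.H355.TIHall
end

-- part: H355/Exc
section
/-!
# The generalized character `Ind (1 - ψ)` of a TI subgroup of odd order with `|N(D) : D| = 2` (helper355)

`D` is a TI subgroup of odd order, of index two in its normalizer, `f ≠ 1` a linear character of `D` inverted by
`N(D)`. Then `phi D f = Ind_D^G (1 - f) = 1 + χ₊ - χ₋` with `χ₊ ≠ χ₋` nonprincipal irreducible characters.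
-/

set_option autoImplicit false
set_option linter.unusedSectionVars false

open scoped ComplexConjugate
open Cfsg

namespace Cfsg.Agent.H355.Exc

open TIHall Characters.Core Blocks.SemiregularGram CharactersDeep.NormalInd

universe u

variable {G : Type u} [Group G]

/-- `f` is inverted by the elements of `N(D)` outside `D`. -/
def Inverted (D : Subgroup G) (f : D →* ℂˣ) : Prop :=
  ∀ y : G, y ∈ Subgroup.normalizer (D : Set G) → y ∉ D → ∀ d e : D, (e : G) = y⁻¹ * d * y → f e = (f d)⁻¹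

/-- `Ind (1 - f)`. -/
noncomputable def phi [Fintype G] (D : Subgroup G) (f : D →* ℂˣ) : G → ℂ := indFun D (1 - toFun f)

theorem theta_one {D : Subgroup G} (f : D →* ℂˣ) : (1 - toFun f : D → ℂ) 1 = 0 := by
  simp [toFun]

variable [Fintype G] {D : Subgroup G}

theorem phi_isClassFunction (f : D →* ℂˣ) : IsClassFunction G (phi D f) := indFun_isClassFunction D _

theorem phi_isGeneralized (f : D →* ℂˣ) : IsGeneralizedCharacter G (phi D f) := by
  refine ⟨indFun D 1, indFun D (toFun f), ?_, ?_, ?_⟩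
  · exact CharactersDeep.IndFun.isCharacter_indFun D (isCharacter_one)
  · exact CharactersDeep.IndFun.isCharacter_indFun D (isIrr_isCharacter (isIrr_toFun f))
  · unfold phi
    funext g
    rw [Pi.sub_apply, indFun_def, indFun_def, indFun_def]
    simp only
    rw [← mul_sub, ← Finset.sum_sub_distrib]
    congr 1
    refine Finset.sum_congr rfl fun x _ => ?_
    by_cases hx : x⁻¹ * g * x ∈ D
    · rw [Characters.Core.extendByZero_of_mem D _ hx, Characters.Core.extendByZero_of_mem D _ hx, Characters.Core.extendByZero_of_mem D _ hx]; rfl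
    · rw [Characters.Core.extendByZero_of_notMem D _ hx, Characters.Core.extendByZero_of_notMem D _ hx, Characters.Core.extendByZero_of_notMem D _ hx, sub_zero]

/-- `phi` vanishes off the conjugates of `D ∖ 1`. -/
theorem phi_eq_zero (f : D →* ℂˣ) {g : G} (hg : ∀ x : G, x * g * x⁻¹ ∈ D → g = 1) : phi D f g = 0 := by
  unfold phi
  rw [indFun_def]
  simp only
  rw [Finset.sum_eq_zero, mul_zero]
  intro x _
  by_cases hx : x⁻¹ * g * x ∈ D
  · have h1 : g = 1 := hg x⁻¹ (by rwa [inv_inv])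
    subst h1
    rw [Characters.Core.extendByZero_of_mem D _ hx]
    have h2 : (⟨x⁻¹ * 1 * x, hx⟩ : D) = 1 := Subtype.ext (by simp)
    rw [h2]
    exact theta_one f
  · exact Characters.Core.extendByZero_of_notMem D _ hx

theorem phi_one (f : D →* ℂˣ) : phi D f 1 = 0 := phi_eq_zero f fun _ _ => rfl

/-- the values of `phi` on `D` -/
theorem phi_apply_mem (h : TIH D) {f : D →* ℂˣ} (hf : Inverted D f) (d : D) :
    phi D f d = (1 - toFun f d) + (1 - toFun f⁻¹ d) := by
  classical
  by_cases hd : d = 1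
  · subst hd
    rw [Subgroup.coe_one, phi_one]
    simp only [toFun, _root_.map_one, _root_.Units.val_one, _root_.sub_self, _root_.MonoidHom.inv_apply, _root_.inv_one, _root_.add_zero]
  have hd1 : (d : G) ≠ 1 := fun h1 => hd (Subtype.ext h1)
  have hD0 : (Nat.card D : ℂ) ≠ 0 := Nat.cast_ne_zero.2 Nat.card_pos.ne'
  obtain ⟨y, hyN, hyD, hy2⟩ := h.exists_involution
  unfold phi
  rw [indFun_def]
  simp only
  -- values at the elements of `D` and of `y D`
  have hval1 : ∀ x ∈ D, extendByZero D (1 - toFun f) (x⁻¹ * d * x) = 1 - toFun f d := by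
    intro x hx
    have hm : x⁻¹ * d * x ∈ D := mul_mem (mul_mem (inv_mem hx) d.2) hx
    rw [Characters.Core.extendByZero_of_mem D _ hm, Pi.sub_apply, Pi.one_apply]
    congr 1
    have h2 : (⟨x⁻¹ * d * x, hm⟩ : D) = (⟨x, hx⟩ : D)⁻¹ * d * ⟨x, hx⟩ := rfl
    rw [h2, toFun_apply, toFun_apply, map_mul, map_mul, map_inv]
    rw [mul_comm (f ⟨x, hx⟩)⁻¹ (f d), inv_mul_cancel_right]
  have hval2 : ∀ x ∈ Subgroup.normalizer (D : Set G), x ∉ D →
      extendByZero D (1 - toFun f) (x⁻¹ * d * x) = 1 - toFun f⁻¹ d := by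
    intro x hx hxD
    have hm : x⁻¹ * d * x ∈ D := by
      have := (Subgroup.mem_normalizer_iff.1 (inv_mem hx) (d : G)).1 d.2
      rwa [inv_inv] at this
    rw [Characters.Core.extendByZero_of_mem D _ hm, Pi.sub_apply, Pi.one_apply]
    congr 1
    rw [toFun_apply, toFun_apply, hf x hx hxD d ⟨_, hm⟩ rfl]
    rfl
  have hval3 : ∀ x : G, x ∉ Subgroup.normalizer (D : Set G) →
      extendByZero D (1 - toFun f) (x⁻¹ * d * x) = 0 := by
    intro x hx
    refine Characters.Core.extendByZero_of_notMem D _ fun hm => hx ?_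
    have h3 : x⁻¹ * d * x⁻¹⁻¹ ∈ D := by rwa [inv_inv]
    exact (Subgroup.inv_mem_iff _).1 (h.ti x⁻¹ d d.2 hd1 h3)
  have hsum : ∑ x : G, extendByZero D (1 - toFun f) (x⁻¹ * d * x) =
      ∑ x : G, ((if x ∈ D then (1 - toFun f d) else 0) + if y * x ∈ D then (1 - toFun f⁻¹ d) else 0) := by
    refine Finset.sum_congr rfl fun x _ => ?_
    have hyi : y⁻¹ = y := by
      have : y * y = 1 := by rw [← pow_two, ← hy2, pow_orderOf_eq_one]
      exact inv_eq_of_mul_eq_one_left this
    by_cases hx : x ∈ D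
    · have h2 : y * x ∉ D := fun h3 => hyD ((Subgroup.mul_mem_cancel_right D hx).1 h3)
      rw [hval1 x hx, if_pos hx, if_neg h2, add_zero]
    · by_cases hxN : x ∈ Subgroup.normalizer (D : Set G)
      · have h2 : y * x ∈ D := h.mul_mem_of_notMem hyN hyD hxN hx
        rw [hval2 x hxN hx, if_neg hx, if_pos h2, zero_add]
      · have h2 : y * x ∉ D := by
          intro h3
          apply hxN
          have h4 := mul_mem (inv_mem hyN) (h.le_normalizer h3)
          rwa [inv_mul_cancel_left] at h4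
        rw [hval3 x hxN, if_neg hx, if_neg h2, add_zero]
  rw [hsum, Finset.sum_add_distrib]
  have hc1 : ∑ x : G, (if x ∈ D then (1 - toFun f d) else 0) = (Nat.card D : ℂ) * (1 - toFun f d) := by
    rw [← Finset.sum_filter, Finset.sum_const, nsmul_eq_mul]
    congr 2
    rw [Nat.card_eq_fintype_card, Fintype.card_subtype]
  have hc2 : ∑ x : G, (if y * x ∈ D then (1 - toFun f⁻¹ d) else 0) = (Nat.card D : ℂ) * (1 - toFun f⁻¹ d) := by
    rw [← Equiv.sum_comp (Equiv.mulLeft y⁻¹)]
    simp only [Equiv.coe_mulLeft, mul_inv_cancel_left]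
    rw [← Finset.sum_filter, Finset.sum_const, nsmul_eq_mul]
    congr 2
    rw [Nat.card_eq_fintype_card, Fintype.card_subtype]
  rw [hc1, hc2, ← mul_add, inv_mul_cancel_left₀ hD0]

/-- **Reciprocity**: `⟨phi, χ⟩ = ⟨1 - f, χ|_D⟩`. -/
theorem classInner_phi [Fintype D] (f : D →* ℂˣ) {χ : G → ℂ} (hχ : IsClassFunction G χ) :
    classInner (phi D f) χ = classInner (1 - toFun f) (fun d : D => χ d) :=
  classInner_indFun D _ _ hχ

theorem ne_inv_self (h : TIH D) {f : D →* ℂˣ} (hf1 : f ≠ 1) : f ≠ f⁻¹ := by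
  intro h1
  apply hf1
  ext d
  have h2 : f d * f d = 1 := by
    have h3 : f d = (f d)⁻¹ := by
      have := congrArg (fun g : D →* ℂˣ => g d) h1
      exact this
    calc f d * f d = f d * (f d)⁻¹ := by rw [← h3]
      _ = 1 := mul_inv_cancel _
  have h4 : f d = 1 := by
    have h5 : f d ^ 2 = 1 := by rw [pow_two, h2]
    have h6 : f d ^ Nat.card D = 1 := by rw [← map_pow, pow_card_eq_one', map_one]
    have h7 : orderOf (f d) ∣ 1 := by
      have h8 := Nat.dvd_gcd (orderOf_dvd_of_pow_eq_one h5) (orderOf_dvd_of_pow_eq_one h6)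
      rwa [Nat.Coprime.gcd_eq_one (Nat.coprime_two_left.2 h.odd)] at h8
    exact orderOf_eq_one_iff.1 (Nat.dvd_one.1 h7)
  rw [h4]; rfl

open scoped Classical in
theorem classInner_phi_self (h : TIH D) {f : D →* ℂˣ} (hf : Inverted D f) (hf1 : f ≠ 1) :
    classInner (phi D f) (phi D f) = 3 := by
  rw [classInner_phi f (phi_isClassFunction f)]
  have h1 : (fun d : D => phi D f d) = (1 - toFun f) + (1 - toFun f⁻¹) := by
    funext d
    rw [phi_apply_mem h hf d]
    rfl
  have h2 : f ≠ f⁻¹ := ne_inv_self h hf1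
  have h3 : f⁻¹ ≠ 1 := by
    intro h3
    apply hf1
    ext d
    have h4 : (f d)⁻¹ = 1 := congrArg (fun g : D →* ℂˣ => g d) h3
    have h5 : f d = 1 := inv_eq_one.1 h4
    rw [h5]; rfl
  rw [h1, classInner_add_right, classInner_sub_right, classInner_sub_right, classInner_sub_left, classInner_sub_left,
    classInner_sub_left, ← toFun_one, classInner_toFun, classInner_toFun, classInner_toFun, classInner_toFun,
    classInner_toFun, classInner_toFun]
  rw [if_pos rfl, if_neg hf1, if_neg (Ne.symm hf1), if_pos rfl, if_neg (Ne.symm h3), if_neg h2]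
  norm_num

theorem classInner_phi_one [Fintype D] {f : D →* ℂˣ} (hf1 : f ≠ 1) :
    classInner (phi D f) 1 = 1 := by
  classical
  rw [classInner_phi f (isCharacter_isClassFunction isCharacter_one)]
  have h1 : (fun d : D => (1 : G → ℂ) d) = toFun (1 : D →* ℂˣ) := by
    rw [toFun_one]; rfl
  rw [h1, classInner_sub_left, ← toFun_one, classInner_toFun, classInner_toFun, if_pos rfl, if_neg hf1, sub_zero]

/-- **The decomposition** `Ind (1 - f) = 1 + χ₊ - χ₋`. -/
theorem exists_pm (h : TIH D) {f : D →* ℂˣ} (hf : Inverted D f) (hf1 : f ≠ 1) :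
    ∃ χp χm : G → ℂ, IsIrrCharacter G χp ∧ IsIrrCharacter G χm ∧ χp ≠ 1 ∧ χm ≠ 1 ∧ χp ≠ χm ∧
      phi D f = 1 + χp - χm := by
  classical
  have : Finite (IrrCharacter G) := finite_irr
  have : Fintype (IrrCharacter G) := Fintype.ofFinite _
  obtain ⟨m, hm⟩ := isGeneralizedCharacter_iff.mp (phi_isGeneralized (G := G) f)
  -- the sum of the squares
  have hsq : ∑ χ : IrrCharacter G, m χ * m χ = 3 := by
    have h1 := classInner_phi_self h hf hf1
    rw [hm] at h1
    have h2 : classInner (∑ χ : IrrCharacter G, m χ • (χ : G → ℂ)) (∑ χ : IrrCharacter G, m χ • (χ : G → ℂ)) =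
        ((∑ χ : IrrCharacter G, m χ * m χ : ℤ) : ℂ) := by
      have h3 : (∑ χ : IrrCharacter G, m χ • (χ : G → ℂ)) = ∑ χ : IrrCharacter G, (m χ : ℂ) • (χ : G → ℂ) := by
        refine Finset.sum_congr rfl fun χ _ => ?_
        funext g
        simp
      rw [h3, classInner_sum_smul_sum_smul]
      push_cast
      refine Finset.sum_congr rfl fun χ _ => ?_
      simp
    rw [h2] at h1
    exact_mod_cast h1
  let χ1 : IrrCharacter G := ⟨1, isIrr_one⟩
  have hcoef : ∀ χ : IrrCharacter G, classInner (phi D f) (χ : G → ℂ) = m χ := by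
    intro χ
    rw [hm, classInner_sum_zsmul_irr]
  have hm1 : m χ1 = 1 := by
    have h1 := hcoef χ1
    rw [show ((χ1 : IrrCharacter G) : G → ℂ) = 1 from rfl] at h1
    rw [classInner_phi_one hf1] at h1
    exact_mod_cast h1.symm
  -- the degrees
  have hdeg : ∑ χ : IrrCharacter G, (m χ : ℂ) * (χ : G → ℂ) 1 = 0 := by
    have h1 := phi_one (G := G) f
    rw [hm] at h1
    simpa only [_root_.zsmul_eq_mul, _root_.Finset.sum_apply, _root_.Pi.mul_apply, _root_.Pi.intCast_apply] using h1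
  choose d hd0 hd using fun χ : IrrCharacter G => isIrr_apply_one χ.2
  have hdeg' : ∑ χ : IrrCharacter G, m χ * (d χ : ℤ) = 0 := by
    have h1 : ((∑ χ : IrrCharacter G, m χ * (d χ : ℤ) : ℤ) : ℂ) = 0 := by
      push_cast
      rw [← hdeg]
      refine Finset.sum_congr rfl fun χ _ => ?_
      rw [hd]
    exact_mod_cast h1
  -- there are exactly two other characters
  have hs2 : ∑ χ ∈ Finset.univ.erase χ1, m χ * m χ = 2 := by
    have h1 := Finset.add_sum_erase Finset.univ (fun χ => m χ * m χ) (Finset.mem_univ χ1)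
    rw [hsq, hm1] at h1
    linarith
  have hd2 : ∑ χ ∈ Finset.univ.erase χ1, m χ * (d χ : ℤ) = -1 := by
    have h1 := Finset.add_sum_erase Finset.univ (fun χ => m χ * (d χ : ℤ)) (Finset.mem_univ χ1)
    have h2 : d χ1 = 1 := by
      have := hd χ1
      rw [show ((χ1 : IrrCharacter G) : G → ℂ) 1 = 1 from rfl] at this
      exact_mod_cast this.symm
    rw [hdeg', hm1, h2] at h1
    push_cast at h1
    linarith only [h1]
  -- a negative one
  have hneg : ∃ b ∈ Finset.univ.erase χ1, m b < 0 := by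
    by_contra hcon
    push Not at hcon
    have : 0 ≤ ∑ χ ∈ Finset.univ.erase χ1, m χ * (d χ : ℤ) :=
      Finset.sum_nonneg fun χ hχ => mul_nonneg (hcon χ hχ) (by (clear * -; positivity))
    omega
  obtain ⟨b, hb, hbneg⟩ := hneg
  have hbm : m b = -1 := by
    have h1 : m b * m b ≤ 2 := by
      rw [← hs2]
      exact Finset.single_le_sum (f := fun χ => m χ * m χ) (fun χ _ => mul_self_nonneg _) hb
    nlinarith only [hbneg, h1]
  have hs3 : ∑ χ ∈ (Finset.univ.erase χ1).erase b, m χ * m χ = 1 := by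
    have h1 := Finset.add_sum_erase (Finset.univ.erase χ1) (fun χ => m χ * m χ) hb
    rw [hs2, hbm] at h1
    linarith
  have hd3 : ∑ χ ∈ (Finset.univ.erase χ1).erase b, m χ * (d χ : ℤ) = (d b : ℤ) - 1 := by
    have h1 := Finset.add_sum_erase (Finset.univ.erase χ1) (fun χ => m χ * (d χ : ℤ)) hb
    rw [hd2, hbm] at h1
    linarith
  have hex : ∃ a ∈ (Finset.univ.erase χ1).erase b, m a ≠ 0 := by
    by_contra hcon
    push Not at hcon
    rw [Finset.sum_eq_zero fun χ hχ => by rw [hcon χ hχ, mul_zero]] at hs3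
    exact zero_ne_one hs3
  obtain ⟨a, ha, ha0⟩ := hex
  have hrest : ∀ χ ∈ ((Finset.univ.erase χ1).erase b).erase a, m χ = 0 := by
    intro χ hχ
    have h1 := Finset.add_sum_erase ((Finset.univ.erase χ1).erase b) (fun χ => m χ * m χ) ha
    rw [hs3] at h1
    have h2 : m χ * m χ ≤ ∑ χ ∈ ((Finset.univ.erase χ1).erase b).erase a, m χ * m χ :=
      Finset.single_le_sum (f := fun χ => m χ * m χ) (fun χ _ => mul_self_nonneg _) hχ
    have h3 : 0 < m a * m a := mul_self_pos.2 ha0
    have h4 : m χ * m χ = 0 := le_antisymm (by linarith) (mul_self_nonneg _)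
    exact mul_self_eq_zero.1 h4
  have ham : m a = 1 := by
    have h1 : m a * m a ≤ 1 := by
      rw [← hs3]
      exact Finset.single_le_sum (f := fun χ => m χ * m χ) (fun χ _ => mul_self_nonneg _) ha
    have h2 := Finset.add_sum_erase ((Finset.univ.erase χ1).erase b) (fun χ => m χ * (d χ : ℤ)) ha
    rw [hd3, Finset.sum_eq_zero fun χ hχ => by rw [hrest χ hχ, zero_mul], add_zero] at h2
    have h3 : (1 : ℤ) ≤ d b := by exact_mod_cast hd0 b
    have h4 : (1 : ℤ) ≤ d a := by exact_mod_cast hd0 a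
    have h5 : m a = 1 ∨ m a = -1 := by
      have : m a < 2 := by nlinarith only [h1]
      have : -2 < m a := by nlinarith only [h2, h4]
      omega
    rcases h5 with h5 | h5
    · exact h5
    · rw [h5] at h2
      linarith only [h2, h3, h4]
  have hab : a ≠ b := (Finset.mem_erase.1 ha).1
  have ha1 : a ≠ χ1 := (Finset.mem_erase.1 (Finset.mem_erase.1 ha).2).1
  have hb1 : b ≠ χ1 := (Finset.mem_erase.1 hb).1
  refine ⟨a, b, a.2, b.2, fun h1 => ha1 (Subtype.ext h1), fun h1 => hb1 (Subtype.ext h1),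
    fun h1 => hab (Subtype.ext h1), ?_⟩
  rw [hm, ← Finset.add_sum_erase Finset.univ _ (Finset.mem_univ χ1), ← Finset.add_sum_erase _ _ hb,
    ← Finset.add_sum_erase _ _ ha, Finset.sum_eq_zero fun χ hχ => by rw [hrest χ hχ, zero_smul]]
  rw [hm1, hbm, ham]
  funext g
  simp only [χ1, _root_.one_smul, _root_.Int.reduceNeg, _root_.neg_smul, _root_.add_zero, _root_.Pi.add_apply, _root_.Pi.one_apply, _root_.Pi.neg_apply, _root_.Pi.sub_apply]
  ring

end Cfsg.Agent.H355.Exc
end

-- part: H355/Trf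
section
/-!
# Linear characters of a TI subgroup of odd order in a perfect group (helper355)

`inverted_of_perfect` : if `G` is perfect and `D` satisfies `TIH`, then every linear character of `D` is inverted by
`N(D)` (transfer). `exists_ne_one` : if `D` is solvable there is a nontrivial one.
-/

set_option autoImplicit false
set_option linter.unusedSectionVars false

namespace Cfsg.Agent.H355.Exc

open TIHall MulAction

variable {G : Type*} [Group G] [Finite G] {D : Subgroup G}

theorem conj_apply {f : D →* ℂˣ} {d e : D} {x : G} (hx : x ∈ D) (h : (e : G) = x⁻¹ * d * x) : f e = f d := by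
  have h2 : e = (⟨x, hx⟩ : D)⁻¹ * d * ⟨x, hx⟩ := Subtype.ext h
  rw [h2, map_mul, map_mul, map_inv, mul_comm (f ⟨x, hx⟩)⁻¹ (f d), inv_mul_cancel_right]

/-- **Transfer**: the linear characters of `D` are inverted. -/
theorem inverted_of_perfect (h : TIH D) (hG : commutator G = ⊤) (f : D →* ℂˣ) : Inverted D f := by
  classical
  intro y hyN hyD d e hde
  by_cases hd1 : (d : G) = 1
  · have h1 : d = 1 := Subtype.ext hd1
    have h2 : e = 1 := Subtype.ext (by rw [hde, hd1]; simp)
    rw [h1, h2, map_one, inv_one]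
  have hV : MonoidHom.transfer f (d : G) = 1 := by
    have h1 : (d : G) ∈ commutator G := by rw [hG]; trivial
    exact (Abelianization.commutator_subset_ker (MonoidHom.transfer f)) h1
  have : Fintype (G ⧸ D) := Fintype.ofFinite _
  have : Fintype (Quotient (orbitRel (Subgroup.zpowers (d : G)) (G ⧸ D))) := Fintype.ofFinite _
  rw [MonoidHom.transfer_eq_prod_quotient_orbitRel_zpowers_quot] at hV
  set Q := Quotient (orbitRel (Subgroup.zpowers (d : G)) (G ⧸ D)) with hQ
  set F : Q → ℂˣ := fun q => f ⟨q.out.out⁻¹ * (d : G) ^ Function.minimalPeriod ((d : G) • ·) q.out * q.out.out,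
            QuotientGroup.out_conj_pow_minimalPeriod_mem D (d : G) q.out⟩ with hF
  have hV' : ∏ q : Q, F q = 1 := by
    rw [← hV]
    exact Finset.prod_congr (Finset.ext fun _ => by simp) fun _ _ => rfl
  -- the fixed cosets
  have hfix : ∀ x : G, x ∈ Subgroup.normalizer (D : Set G) → (d : G) • (x : G ⧸ D) = (x : G ⧸ D) := by
    intro x hx
    have h1 := QuotientGroup.mk_mul_of_mem x ((Subgroup.mem_normalizer_iff.1 (inv_mem hx) (d : G)).1 d.2)
    calc (d : G) • (x : G ⧸ D) = ((d * x : G) : G ⧸ D) := rfl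
      _ = ((x * (x⁻¹ * d * x⁻¹⁻¹) : G) : G ⧸ D) := by congr 1; group
      _ = _ := h1
  have hfixz : ∀ x : G, x ∈ Subgroup.normalizer (D : Set G) → ∀ c ∈ Subgroup.zpowers (d : G),
      c • (x : G ⧸ D) = (x : G ⧸ D) := by
    intro x hx c hc
    have h1 : (d : G) ∈ MulAction.stabilizer G (x : G ⧸ D) := hfix x hx
    exact (Subgroup.zpowers_le.2 h1) hc
  have hout : ∀ x : G, x ∈ Subgroup.normalizer (D : Set G) →
      (Quotient.mk (orbitRel (Subgroup.zpowers (d : G)) (G ⧸ D)) (x : G ⧸ D)).out = (x : G ⧸ D) := by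
    intro x hx
    have h1 := Quotient.mk_out (s := orbitRel (Subgroup.zpowers (d : G)) (G ⧸ D)) (x : G ⧸ D)
    have h2 : (Quotient.mk (orbitRel (Subgroup.zpowers (d : G)) (G ⧸ D)) (x : G ⧸ D)).out ∈
        MulAction.orbit (Subgroup.zpowers (d : G)) (x : G ⧸ D) := h1
    obtain ⟨c, hc⟩ := h2
    rw [← hc]
    exact hfixz x hx c c.2
  have hval : ∀ x : G, x ∈ Subgroup.normalizer (D : Set G) → ∀ e' : D, (e' : G) = x⁻¹ * d * x →
      F (Quotient.mk _ (x : G ⧸ D)) = f e' := by
    intro x hx e' he'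
    have h1 := hout x hx
    set q : Q := Quotient.mk _ (x : G ⧸ D) with hq
    have h2 : ((q.out.out : G) : G ⧸ D) = (x : G ⧸ D) := by
      rw [← h1]; exact QuotientGroup.out_eq' q.out
    have h3 : x⁻¹ * q.out.out ∈ D := by
      rw [← QuotientGroup.eq]
      exact h2.symm
    have h4 : Function.minimalPeriod ((d : G) • ·) q.out = 1 := by
      rw [Function.minimalPeriod_eq_one_iff_isFixedPt, h1]
      exact hfix x hx
    refine conj_apply h3 ?_
    show q.out.out⁻¹ * (d : G) ^ Function.minimalPeriod ((d : G) • ·) q.out * q.out.out = _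
    rw [h4, pow_one, he']
    group
  have hrest : ∀ q : Q, q ≠ Quotient.mk _ ((1 : G) : G ⧸ D) → q ≠ Quotient.mk _ ((y : G) : G ⧸ D) → F q = 1 := by
    intro q hq1 hq2
    by_cases hdn : (d : G) ^ Function.minimalPeriod ((d : G) • ·) q.out = 1
    · have h1 : (⟨q.out.out⁻¹ * (d : G) ^ Function.minimalPeriod ((d : G) • ·) q.out * q.out.out,
            QuotientGroup.out_conj_pow_minimalPeriod_mem D (d : G) q.out⟩ : D) = 1 := Subtype.ext (by
        show q.out.out⁻¹ * (d : G) ^ Function.minimalPeriod ((d : G) • ·) q.out * q.out.out = 1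
        rw [hdn]; group)
      show f _ = 1
      rw [h1, map_one]
    · exfalso
      have h2 : q.out.out⁻¹ * (d : G) ^ Function.minimalPeriod ((d : G) • ·) q.out * q.out.out⁻¹⁻¹ ∈ D := by
        rw [inv_inv]
        exact QuotientGroup.out_conj_pow_minimalPeriod_mem D (d : G) q.out
      have h3 := h.ti _ _ (pow_mem d.2 _) hdn h2
      have h4 : q.out.out ∈ Subgroup.normalizer (D : Set G) := (Subgroup.inv_mem_iff _).1 h3
      have h5 : q = Quotient.mk _ ((q.out.out : G) : G ⧸ D) := by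
        conv_lhs => rw [← q.out_eq]
        congr 1
        exact (QuotientGroup.out_eq' q.out).symm
      by_cases h6 : q.out.out ∈ D
      · apply hq1
        rw [h5]
        congr 1
        rw [QuotientGroup.eq]
        simpa using h6
      · apply hq2
        rw [h5]
        congr 1
        rw [eq_comm, QuotientGroup.eq]
        have h7 : y⁻¹ ∉ D := fun h8 => hyD ((Subgroup.inv_mem_iff _).1 h8)
        exact h.mul_mem_of_notMem (inv_mem hyN) h7 h4 h6
  have hne : (Quotient.mk (orbitRel (Subgroup.zpowers (d : G)) (G ⧸ D)) ((1 : G) : G ⧸ D)) ≠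
      Quotient.mk (orbitRel (Subgroup.zpowers (d : G)) (G ⧸ D)) ((y : G) : G ⧸ D) := by
    intro h1
    have h2 := hout 1 (one_mem _)
    rw [h1, hout y hyN] at h2
    apply hyD
    rw [eq_comm, QuotientGroup.eq] at h2
    simpa using h2
  rw [← Finset.prod_subset (Finset.subset_univ {(Quotient.mk _ ((1 : G) : G ⧸ D) : Q), (Quotient.mk _ ((y : G) : G ⧸ D) : Q)})
    (fun q _ hq => by
      rw [Finset.mem_insert, Finset.mem_singleton, not_or] at hq
      exact hrest q hq.1 hq.2), Finset.prod_pair hne, hval 1 (one_mem _) d (by simp), hval y hyN e hde] at hV'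
  exact eq_inv_of_mul_eq_one_right hV'

/-- A finite group different from its derived subgroup has a nontrivial linear character. -/
theorem exists_hom_ne_one {P : Type*} [Group P] [Finite P] (hP : commutator P ≠ ⊤) : ∃ f : P →* ℂˣ, f ≠ 1 := by
  have : Nontrivial (Abelianization P) := by
    by_contra hcon
    rw [not_nontrivial_iff_subsingleton] at hcon
    apply hP
    rw [eq_top_iff]
    intro x _
    have : (QuotientGroup.mk x : P ⧸ commutator P) = 1 := Subsingleton.elim (α := Abelianization P) _ _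
    exact (QuotientGroup.eq_one_iff x).1 this
  obtain ⟨x, hx⟩ := exists_ne (1 : Abelianization P)
  have : Finite (Abelianization P) := Finite.of_surjective _ (QuotientGroup.mk_surjective (s := commutator P))
  have : NeZero ((Monoid.exponent (Abelianization P) : ℕ) : ℂ) :=
    ⟨Nat.cast_ne_zero.2 (Monoid.exponent_ne_zero_of_finite)⟩
  obtain ⟨φ, hφ⟩ := CommGroup.exists_apply_ne_one_of_hasEnoughRootsOfUnity (Abelianization P) ℂ hx
  obtain ⟨z, rfl⟩ := QuotientGroup.mk_surjective (s := commutator P) x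
  refine ⟨φ.comp Abelianization.of, fun h1 => hφ ?_⟩
  have := congrArg (fun g : P →* ℂˣ => g z) h1
  exact this

end Cfsg.Agent.H355.Exc
end

-- part: H355/Prod
section
/-!
# Products of conjugates fall into `D` (helper355)

`G` simple and not commutative, `D` solvable with `TIH D`. If `s, t ≠ 1` are not conjugate to elements of `D`,
then some product `(a t a⁻¹) s` is conjugate to a nonidentity element of `D` (`exists_mul_mem`).
-/

set_option autoImplicit false
set_option linter.unusedSectionVars false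

open Cfsg
open scoped commutatorElement

namespace Cfsg.Agent.H355.Exc

open TIHall Characters.Core

universe u

variable {G : Type u} [Group G]

/-- the exceptional characters of `D` -/
structure Pair [Fintype G] (D : Subgroup G) (f : D →* ℂˣ) (χp χm : G → ℂ) : Prop where
  irrp : IsIrrCharacter G χp
  irrm : IsIrrCharacter G χm
  nep : χp ≠ 1
  nem : χm ≠ 1
  ne : χp ≠ χm
  eq : phi D f = 1 + χp - χm

theorem perfect_of_simple [IsSimpleGroup G] (hG : ¬ IsMulCommutative G) : commutator G = ⊤ := by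
  rcases (inferInstance : (commutator G).Normal).eq_bot_or_eq_top with h | h
  · exfalso
    apply hG
    constructor
    constructor
    intro a b
    have h1 : ⁅a, b⁆ ∈ commutator G := Subgroup.commutator_mem_commutator (Subgroup.mem_top a) (Subgroup.mem_top b)
    rw [h, Subgroup.mem_bot, commutatorElement_eq_one_iff_mul_comm] at h1
    exact h1
  · exact h

theorem exists_pair [Fintype G] [IsSimpleGroup G] (hG : ¬ IsMulCommutative G) {D : Subgroup G} (h : TIH D)
    (hs : commutator D ≠ ⊤) : ∃ (f : D →* ℂˣ) (χp χm : G → ℂ), f ≠ 1 ∧ Inverted D f ∧ Pair D f χp χm := by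
  obtain ⟨f, hf⟩ := exists_hom_ne_one hs
  have hi := inverted_of_perfect h (perfect_of_simple hG) f
  obtain ⟨χp, χm, h1, h2, h3, h4, h5, h6⟩ := exists_pm h hi hf
  exact ⟨f, χp, χm, hf, hi, h1, h2, h3, h4, h5, h6⟩

namespace Pair

variable [Fintype G] {D : Subgroup G} {f : D →* ℂˣ} {χp χm : G → ℂ} (hP : Pair D f χp χm)

include hP

theorem eq_of {g : G} (hg : ∀ x : G, x * g * x⁻¹ ∈ D → g = 1) : χm g = 1 + χp g := by
  have h1 := phi_eq_zero f hg
  rw [hP.eq] at h1
  have h2 : 1 + χp g - χm g = 0 := h1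
  linear_combination -h2

theorem eq_one : χm 1 = 1 + χp 1 := hP.eq_of fun _ _ => rfl

/-- the sum over the products -/
theorem sum_phi {s t : G} (hs : ∀ x : G, x * s * x⁻¹ ∈ D → s = 1) (ht : ∀ x : G, x * t * x⁻¹ ∈ D → t = 1) :
    ∑ a : G, phi D f (a * t * a⁻¹ * s) =
      (Nat.card G : ℂ) * ((χp 1 - χp s) * (χp 1 - χp t)) / (χp 1 * (1 + χp 1)) := by
  have h1 := Characters.Central.sum_char_conj_mul hP.irrp t s
  have h2 := Characters.Central.sum_char_conj_mul hP.irrm t s
  have h3 : ∀ a : G, phi D f (a * t * a⁻¹ * s) = 1 + χp (a * t * a⁻¹ * s) - χm (a * t * a⁻¹ * s) := by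
    intro a; rw [hP.eq]; rfl
  simp_rw [h3]
  rw [Finset.sum_sub_distrib, Finset.sum_add_distrib, h1, h2, hP.eq_of hs, hP.eq_of ht, hP.eq_one]
  have hp0 : χp 1 ≠ 0 := isIrr_apply_one_ne_zero hP.irrp
  have hm0 : 1 + χp 1 ≠ 0 := by
    rw [← hP.eq_one]; exact isIrr_apply_one_ne_zero hP.irrm
  rw [Finset.sum_const, Finset.card_univ, nsmul_eq_mul, mul_one, Nat.card_eq_fintype_card]
  field_simp
  ring

end Pair

/-- **The product theorem.** -/
theorem exists_mul_mem [Finite G] [IsSimpleGroup G] (hG : ¬ IsMulCommutative G) {D : Subgroup G} (h : TIH D)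
    (hD : commutator D ≠ ⊤) {s t : G} (hs1 : s ≠ 1) (ht1 : t ≠ 1) (hs : ∀ x : G, x * s * x⁻¹ ∉ D)
    (ht : ∀ x : G, x * t * x⁻¹ ∉ D) :
    ∃ a x : G, x * (a * t * a⁻¹ * s) * x⁻¹ ∈ D ∧ a * t * a⁻¹ * s ≠ 1 := by
  have := Fintype.ofFinite G
  by_contra hcon
  push Not at hcon
  obtain ⟨f, χp, χm, hf1, hf, hP⟩ := exists_pair hG h hD
  have h1 := hP.sum_phi (s := s) (t := t) (fun x hx => absurd hx (hs x)) (fun x hx => absurd hx (ht x))
  rw [Finset.sum_eq_zero fun a _ => phi_eq_zero f fun x hx => hcon a x hx] at h1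
  have hp0 : χp 1 ≠ 0 := isIrr_apply_one_ne_zero hP.irrp
  have hm0 : 1 + χp 1 ≠ 0 := by
    rw [← hP.eq_one]; exact isIrr_apply_one_ne_zero hP.irrm
  have hG0 : (Nat.card G : ℂ) ≠ 0 := Nat.cast_ne_zero.2 Nat.card_pos.ne'
  rw [eq_comm, div_eq_zero_iff, mul_eq_zero, mul_eq_zero] at h1
  rcases h1 with (h1 | h1 | h1) | h1
  · exact hG0 h1
  · exact hs1 (Classification.BSW.CharTools.eq_one_of_apply_eq hP.irrp hP.nep (sub_eq_zero.1 h1).symm)
  · exact ht1 (Classification.BSW.CharTools.eq_one_of_apply_eq hP.irrp hP.nep (sub_eq_zero.1 h1).symm)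
  · exact (mul_ne_zero hp0 hm0) h1

end Cfsg.Agent.H355.Exc
end
end

-- part: H355/FiltClass
section
prune_inst 0x200000011322100000040012000000911100000000000000802401040000c00280028000080000000002000800040000000000000000000000000000000001000000000200000000000000000000010000000000000000000000000000000000004010000
set_option linter.all false
open scoped Cfsg.Agent.FastGrp

-- part: H355/RgdOrth
section
/-!
# Roots orthogonal to a root (helper355)

* `exists_orth` : rank at least three;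
* `exists_orth_two` : rank at least four: two non-proportional ones;
* `exists_orth_rank_two` : rank two, not of type `A₂`;
* `exists_orth_B3` : rank three, type `B₃`/`C₃`: two non-proportional ones.
-/

set_option autoImplicit false
set_option linter.unusedSectionVars false

namespace Cfsg.Agent.H355.Rgd

open CoxeterSystem Cfsg.Agent.ChevalleyStructure.CoxeterGeom Cfsg.Agent.Tits.Roots Cfsg.Agent.Tits.Core
  Cfsg.Agent.Tits.RootComb Cfsg.Agent.Nodes.Comb Cfsg.Agent.Nodes.Reps Cfsg.Agent.Nodes.BNOf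
  Cfsg.Agent.Nodes.Unique Cfsg.Agent.Nodes.Coroot

variable {I W : Type*} [Fintype I] [DecidableEq I] [Group W] {M : CoxeterMatrix I}
  {cs : CoxeterSystem M W} {A : I → I → ℤ} {h : IsCartan M A}

theorem exists_sign [Fintype W] {x y : I → ℤ} (hx : IsRoot cs h x) (hy : IsRoot cs h y)
    (h1 : cpr cs h x y * cpr cs h y x = 1) :
    ∃ e : ℤ, (e = 1 ∨ e = -1) ∧ IsRoot cs h (e • y) ∧ cpr cs h x (e • y) = 1 ∧ cpr cs h (e • y) x = 1 := by
  rcases Int.eq_one_or_neg_one_of_mul_eq_one' h1 with ⟨h2, h3⟩ | ⟨h2, h3⟩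
  · exact ⟨1, Or.inl rfl, by rwa [one_smul], by rwa [one_smul], by rwa [one_smul]⟩
  · refine ⟨-1, Or.inr rfl, ?_, ?_, ?_⟩
    · rw [neg_one_smul]; exact hy.neg
    · rw [neg_one_smul, cpr_neg_right cs h _ hy, h2]; norm_num
    · rw [neg_one_smul, cpr_neg cs h _ hx, h3]; norm_num

theorem sr_apply_ne {i j : I} (hij : i ≠ j) : (sr i : I → ℤ) j = 0 := sr_ne (Ne.symm hij)

theorem exists_orth_of [Fintype W] {x : I → ℤ} (hx : IsRoot cs h x) {i0 j1 j2 : I} (h0 : x i0 ≠ 0) (h01 : i0 ≠ j1)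
    (h02 : i0 ≠ j2) (h12 : j1 ≠ j2) :
    ∃ β, IsRoot cs h β ∧ form cs h x β = 0 ∧ ∃ a b c : ℤ, β = a • x + b • sr j1 + c • sr j2 := by
  have hj1 := isRoot_sr cs h j1
  have hj2 := isRoot_sr cs h j2
  -- the simple roots are not proportional to `x`
  have hne : ∀ j : I, i0 ≠ j → (sr j : I → ℤ) ≠ x ∧ (sr j : I → ℤ) ≠ -x := by
    intro j hj
    constructor
    · intro h3
      apply h0
      rw [← h3, sr_apply_ne (Ne.symm hj)]
    · intro h3
      apply h0
      have h4 := congrFun h3 i0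
      rw [sr_apply_ne (Ne.symm hj), Pi.neg_apply] at h4
      omega
  -- one simple root
  have hone : ∀ j : I, i0 ≠ j → (∃ β, IsRoot cs h β ∧ form cs h x β = 0 ∧ ∃ a b : ℤ, β = a • x + b • sr j) ∨
      cpr cs h x (sr j) * cpr cs h (sr j) x = 1 := by
    intro j hj
    have hr := isRoot_sr cs h j
    obtain ⟨h3, h4⟩ := cpr_mul_lt hx hr (hne j hj).1 (hne j hj).2
    have h5 : cpr cs h x (sr j) * cpr cs h (sr j) x = 0 ∨ cpr cs h x (sr j) * cpr cs h (sr j) x = 1 ∨
        (cpr cs h x (sr j) * cpr cs h (sr j) x = 2 ∨ cpr cs h x (sr j) * cpr cs h (sr j) x = 3) := by omega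
    rcases h5 with h5 | h5 | h5
    · left
      refine ⟨sr j, hr, ?_, 0, 1, by rw [zero_smul, one_smul, zero_add]⟩
      have h6 := cpr_mul_form hx hr
      rw [h5, zero_mul] at h6
      have h7 : form cs h x (sr j) * form cs h x (sr j) = 0 := by omega
      exact mul_self_eq_zero.1 h7
    · right; exact h5
    · left
      obtain ⟨β, h6, h7, a, b, h8, -⟩ := exists_orth_plane hx hr h5
      exact ⟨β, h6, h7, a, b, h8⟩
  rcases hone j1 h01 with ⟨β, h3, h4, a, b, h5⟩ | h3
  · exact ⟨β, h3, h4, a, b, 0, by rw [h5, zero_smul, add_zero]⟩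
  rcases hone j2 h02 with ⟨β, h4, h5, a, b, h6⟩ | h4
  · exact ⟨β, h4, h5, a, 0, b, by rw [h6, zero_smul, add_zero]⟩
  obtain ⟨e1, he1, hy, c1, c2⟩ := exists_sign hx hj1 h3
  obtain ⟨e2, he2, hy', c3, c4⟩ := exists_sign hx hj2 h4
  have hne1 : e1 ≠ 0 := by rcases he1 with h | h <;> rw [h] <;> decide
  have hval : ∀ e e' : ℤ, e ≠ 0 → e • (sr j1 : I → ℤ) ≠ e' • sr j2 := by
    intro e e' he h5
    have h6 := congrFun h5 j1
    rw [Pi.smul_apply, Pi.smul_apply, sr_self, sr_apply_ne (Ne.symm h12)] at h6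
    simp at h6
    exact he h6
  have h5 : e1 • (sr j1 : I → ℤ) ≠ e2 • sr j2 := hval e1 e2 hne1
  have h6 : e1 • (sr j1 : I → ℤ) ≠ -(e2 • sr j2) := by
    rw [← neg_smul]; exact hval e1 (-e2) hne1
  have h7 : x ≠ e1 • sr j1 + e2 • sr j2 := by
    intro h8
    apply h0
    rw [h8, Pi.add_apply, Pi.smul_apply, Pi.smul_apply, sr_apply_ne (Ne.symm h01), sr_apply_ne (Ne.symm h02)]
    simp
  rcases exists_orth_triple hx hy hy' c2 c4 c1 c3 h5 h6 h7 with ⟨h8, h9⟩ | ⟨h8, h9⟩
  · exact ⟨_, h8, h9, 0, e1, -e2, by rw [zero_smul, zero_add, neg_smul, sub_eq_add_neg]⟩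
  · exact ⟨_, h8, h9, 1, -e1, -e2, by rw [one_smul, neg_smul, neg_smul]; abel⟩

/-- **Rank at least three: every root has an orthogonal root.** -/
theorem exists_orth [Fintype W] (h3 : 3 ≤ Fintype.card I) {x : I → ℤ} (hx : IsRoot cs h x) :
    ∃ β, IsRoot cs h β ∧ form cs h x β = 0 := by
  obtain ⟨i0, hi0⟩ : ∃ i, x i ≠ 0 := by
    by_contra hcon
    push Not at hcon
    exact hx.ne_zero (funext hcon)
  have hc : 2 ≤ (Finset.univ.erase i0 : Finset I).card := by
    rw [Finset.card_erase_of_mem (Finset.mem_univ _), Finset.card_univ]; omega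
  obtain ⟨j1, hj1, j2, hj2, h12⟩ := Finset.one_lt_card.1 (by omega : 1 < (Finset.univ.erase i0 : Finset I).card)
  obtain ⟨β, h4, h5, -⟩ := exists_orth_of hx hi0 (Ne.symm (Finset.mem_erase.1 hj1).1)
    (Ne.symm (Finset.mem_erase.1 hj2).1) h12
  exact ⟨β, h4, h5⟩

/-- **Rank two, not `A₂`.** -/
theorem exists_orth_rank_two [Fintype W] {i j : I} (hij : i ≠ j) (hI : ∀ k, k = i ∨ k = j) (hM : M i j ≠ 3)
    {x : I → ℤ} (hx : IsRoot cs h x) : ∃ β, IsRoot cs h β ∧ form cs h x β = 0 := by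
  have hA : A i j * A j i ≠ 1 ∧ (A i j * A j i = 0 ∨ A i j * A j i = 2 ∨ A i j * A j i = 3) := by
    rcases h.rel i j hij with ⟨_, h1, h2⟩ | ⟨h0, _⟩ | ⟨_, ⟨h1, h2⟩ | ⟨h1, h2⟩⟩ | ⟨_, ⟨h1, h2⟩ | ⟨h1, h2⟩⟩
    · rw [h1]; constructor
      · rw [zero_mul]; decide
      · left; rw [zero_mul]
    · exact absurd h0 hM
    all_goals rw [h1, h2]; decide
  have hcij : cpr cs h (sr j) (sr i) = A i j := by
    rw [cpr_sr]
    unfold pairing sr
    simp only [Pi.single_apply, _root_.mul_ite, _root_.mul_one, _root_.MulZeroClass.mul_zero, _root_.Finset.sum_ite_eq', _root_.Finset.mem_univ, ↓ _root_.reduceIte]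
  have hcji : cpr cs h (sr i) (sr j) = A j i := by
    rw [cpr_sr]
    unfold pairing sr
    simp only [Pi.single_apply, _root_.mul_ite, _root_.mul_one, _root_.MulZeroClass.mul_zero, _root_.Finset.sum_ite_eq', _root_.Finset.mem_univ, ↓ _root_.reduceIte]
  -- non-proportional simple roots
  have hone : ∀ {y z : I → ℤ}, IsRoot cs h y → IsRoot cs h z → z ≠ y → z ≠ -y →
      (∃ β, IsRoot cs h β ∧ form cs h y β = 0) ∨ cpr cs h y z * cpr cs h z y = 1 := by
    intro y z hy hz h1 h2
    obtain ⟨h3, h4⟩ := cpr_mul_lt hy hz h1 h2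
    have h5 : cpr cs h y z * cpr cs h z y = 0 ∨ cpr cs h y z * cpr cs h z y = 1 ∨
        (cpr cs h y z * cpr cs h z y = 2 ∨ cpr cs h y z * cpr cs h z y = 3) := by omega
    rcases h5 with h5 | h5 | h5
    · left
      refine ⟨z, hz, ?_⟩
      have h6 := cpr_mul_form hy hz
      rw [h5, zero_mul] at h6
      have h7 : form cs h y z * form cs h y z = 0 := by omega
      exact mul_self_eq_zero.1 h7
    · right; exact h5
    · left
      obtain ⟨β, h6, h7, -⟩ := exists_orth_plane hy hz h5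
      exact ⟨β, h6, h7⟩
  have hsij : (sr j : I → ℤ) ≠ sr i ∧ (sr j : I → ℤ) ≠ -sr i := by
    constructor
    · intro h1
      have := congrFun h1 j
      rw [sr_self, sr_apply_ne hij] at this
      exact absurd this (by decide)
    · intro h1
      have := congrFun h1 j
      rw [sr_self, Pi.neg_apply, sr_apply_ne hij] at this
      exact absurd this (by decide)
  have hsji : (sr i : I → ℤ) ≠ sr j ∧ (sr i : I → ℤ) ≠ -sr j := by
    refine ⟨Ne.symm hsij.1, fun h1 => hsij.2 ?_⟩
    rw [h1, neg_neg]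
  have hi := isRoot_sr cs h i
  have hj := isRoot_sr cs h j
  by_cases hxi : sr i = x ∨ sr i = -x
  · have h1 : ∃ β, IsRoot cs h β ∧ form cs h (sr i) β = 0 := by
      rcases hone hi hj hsij.1 hsij.2 with h2 | h2
      · exact h2
      · rw [hcji, hcij, mul_comm] at h2
        exact absurd h2 hA.1
    obtain ⟨β, h2, h3⟩ := h1
    refine ⟨β, h2, ?_⟩
    rcases hxi with h4 | h4
    · rwa [h4] at h3
    · rw [h4, form_neg_left, neg_eq_zero] at h3; exact h3
  push Not at hxi
  by_cases hxj : sr j = x ∨ sr j = -x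
  · have h1 : ∃ β, IsRoot cs h β ∧ form cs h (sr j) β = 0 := by
      rcases hone hj hi hsji.1 hsji.2 with h2 | h2
      · exact h2
      · rw [hcji, hcij] at h2
        exact absurd h2 hA.1
    obtain ⟨β, h2, h3⟩ := h1
    refine ⟨β, h2, ?_⟩
    rcases hxj with h4 | h4
    · rwa [h4] at h3
    · rw [h4, form_neg_left, neg_eq_zero] at h3; exact h3
  push Not at hxj
  rcases hone hx hi hxi.1 hxi.2 with h1 | h1
  · exact h1
  rcases hone hx hj hxj.1 hxj.2 with h2 | h2
  · exact h2
  exfalso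
  obtain ⟨-, n1⟩ := norm_eq_of_one hx hi h1
  obtain ⟨-, n2⟩ := norm_eq_of_one hx hj h2
  have f1 := two_form_cpr cs h (sr j) hi
  have f2 := two_form_cpr cs h (sr i) hj
  rw [hcij, ← n1] at f1
  rw [hcji, ← n2, form_comm cs h (sr i) (sr j), f1] at f2
  have h3 : A i j = A j i := mul_right_cancel₀ (form_pos cs h hx.ne_zero).ne' f2
  have h4 : A i j = 0 := by
    rcases hA.2 with h5 | h5 | h5
    · rw [h3] at h5 ⊢
      exact mul_self_eq_zero.1 h5
    · rw [← h3] at h5
      have h6 : A i j < 2 := by nlinarith only [h5]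
      have h7 : -2 < A i j := by nlinarith only [h5]
      have h8 : A i j = 1 ∨ A i j = 0 ∨ A i j = -1 := by omega
      rcases h8 with h8 | h8 | h8 <;> rw [h8] at h5 <;> exact absurd h5 (by decide)
    · rw [← h3] at h5
      have h6 : A i j < 2 := by nlinarith only [h5]
      have h7 : -2 < A i j := by nlinarith only [h5]
      have h8 : A i j = 1 ∨ A i j = 0 ∨ A i j = -1 := by omega
      rcases h8 with h8 | h8 | h8 <;> rw [h8] at h5 <;> exact absurd h5 (by decide)
  have h5 : cpr cs h x (sr i) = 2 * x i := by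
    rw [cpr_sr]
    unfold pairing
    have h6 : (Finset.univ : Finset I) = {i, j} := by
      ext k
      simp only [Finset.mem_univ, Finset.mem_insert, Finset.mem_singleton, true_iff]
      exact hI k
    rw [h6, Finset.sum_pair hij, h.diag, h4, zero_mul, add_zero]
  rw [h5] at h1
  have h6 : (2 : ℤ) ∣ 1 := ⟨x i * cpr cs h (sr i) x, by rw [← h1]; ring⟩
  exact absurd h6 (by decide)

end Cfsg.Agent.H355.Rgd
end

-- part: H355/RgdVal
section
/-!
# Small root subgroups commuting with half of the roots (helper355)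

Let `R` be a root group datum with a filtration `F` (finite group). There is a dominant root `x` and a number `c` such
that, with `Z z = F z c` for the roots `z` in the `W`-orbit of `x`:

* `Z z ≠ 1`, `w Z z w⁻¹ = Z (w z)`;
* `Z z` commutes with `X y` for all roots `y ≠ z` with `(z, y) ≥ 0`;
* `B` normalizes `Z x`.

Main result `exists_Z`.
-/

set_option autoImplicit false
set_option linter.unusedSectionVars false

namespace Cfsg.Agent.H355.Rgd

open CoxeterSystem Cfsg.Agent.ChevalleyStructure.CoxeterGeom Cfsg.Agent.Tits.Roots Cfsg.Agent.Tits.Core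
  Cfsg.Agent.Tits.RootComb Cfsg.Agent.Nodes.Comb Cfsg.Agent.Nodes.Reps Cfsg.Agent.Nodes.BNOf
  Cfsg.Agent.Nodes.Unique Cfsg.Agent.Nodes.Coroot Cfsg.Agent.KFacts.RgdBorelTits Cfsg.Agent.Nodes.Bruhat
open scoped commutatorElement

variable {I W Y : Type*} [Fintype I] [DecidableEq I] [Group W] [Group Y] {M : CoxeterMatrix I}
  {cs : CoxeterSystem M W} {A : I → I → ℤ} {h : IsCartan M A} {p : ℕ} {T : Subgroup Y} {n : I → Y}
  {X : (I → ℤ) → Subgroup Y} {R : RGD cs h p T n X} {F : (I → ℤ) → ℝ → Subgroup Y}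

/-- the first jump of the filtration -/
noncomputable def cv (F : (I → ℤ) → ℝ → Subgroup Y) (x : I → ℤ) : ℝ := sInf {s | F x s ≠ ⊥}

section

variable [Finite W] [Finite Y] (hF : Filt R F)

include hF

theorem isClosed_ne {x : I → ℤ} (hx : IsRoot cs h x) : IsClosed {s : ℝ | F x s ≠ ⊥} := by
  have h1 : {s : ℝ | F x s ≠ ⊥} = ⋃ u : {u : Y // u ≠ 1}, {s : ℝ | u.1 ∈ F x s} := by
    ext s
    simp only [Set.mem_ofPred_eq, Set.mem_iUnion]
    constructor
    · intro h2
      obtain ⟨u, hu⟩ := Subgroup.ne_bot_iff_exists_ne_one.1 h2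
      exact ⟨⟨u.1, fun h3 => hu (Subtype.ext h3)⟩, u.2⟩
    · rintro ⟨⟨u, hu1⟩, hu⟩ h2
      rw [h2, Subgroup.mem_bot] at hu
      exact hu1 hu
  rw [h1]
  exact isClosed_iUnion_of_finite fun u => hF.closed x hx u.1

theorem nonempty_ne {x : I → ℤ} (hx : IsRoot cs h x) : {s : ℝ | F x s ≠ ⊥}.Nonempty := by
  obtain ⟨C, hC, h1⟩ := hF.full
  refine ⟨C, fun h2 => ?_⟩
  have h3 := h1 x C hx le_rfl
  rw [h2, le_bot_iff] at h3
  exact X_ne_bot R hx h3

theorem bddBelow_ne {x : I → ℤ} (hx : IsRoot cs h x) : BddBelow {s : ℝ | F x s ≠ ⊥} := by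
  refine ⟨0, fun s hs => ?_⟩
  by_contra hcon
  push Not at hcon
  exact hs (hF.neg x s hx hcon.le)

theorem F_cv {x : I → ℤ} (hx : IsRoot cs h x) : F x (cv F x) ≠ ⊥ :=
  (isClosed_ne hF hx).csInf_mem (nonempty_ne hF hx) (bddBelow_ne hF hx)

theorem cv_pos {x : I → ℤ} (hx : IsRoot cs h x) : 0 < cv F x := by
  by_contra hcon
  push Not at hcon
  exact F_cv hF hx (hF.neg x _ hx hcon)

theorem F_lt {x : I → ℤ} (hx : IsRoot cs h x) {s : ℝ} (hs : s < cv F x) : F x s = ⊥ := by
  by_contra hcon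
  exact absurd (csInf_le (bddBelow_ne hF hx) hcon) (not_le.2 hs)

theorem cj_eq_bot {g : Y} {K : Subgroup Y} (h1 : cj g K = ⊥) : K = ⊥ := by
  have h2 := cj_inv_cj g K
  rw [h1] at h2
  rw [← h2]
  exact Subgroup.map_bot _

theorem F_conj {w : W} {g : Y} (hg : Rp cs R.nsys w g) {x : I → ℤ} (hx : IsRoot cs h x) (s : ℝ) :
    cj g (F x s) = F (rep cs h w x) s := by
  have key : ∀ ω : List I, ∀ x, IsRoot cs h x → ∃ k, Rp cs R.nsys (cs.wordProd ω) k ∧
      cj k (F x s) = F (rep cs h (cs.wordProd ω) x) s := by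
    intro ω
    induction ω with
    | nil =>
      intro x _
      exact ⟨1, by rw [wordProd_nil]; exact rp_one, by rw [wordProd_nil, cj_one, map_one, Module.End.one_apply]⟩
    | cons i ω ih =>
      intro x hx
      obtain ⟨k, hk, e⟩ := ih x hx
      refine ⟨n i * k, ?_, ?_⟩
      · rw [wordProd_cons]; exact (rp_simple cs R.nsys i).mul hk
      · rw [cj_mul, e, hF.conj i _ s (hx.act _), ← rep_mul_apply, wordProd_cons]
  obtain ⟨ω, rfl⟩ := cs.wordProd_surjective w
  obtain ⟨k, hk, e⟩ := key ω x hx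
  have h1 : g = k * (k⁻¹ * g) := by group
  rw [h1, cj_mul, hF.tor x s hx _ (hk.unique hg), e]

theorem cv_rep (w : W) {x : I → ℤ} (hx : IsRoot cs h x) : cv F (rep cs h w x) = cv F x := by
  obtain ⟨g, hg⟩ := exists_rp cs R.nsys w
  unfold cv
  congr 1
  ext s
  simp only [Set.mem_ofPred_eq]
  rw [← F_conj hF hg hx s]
  constructor
  · intro h1 h2
    apply h1
    rw [h2]
    exact Subgroup.map_bot _
  · intro h1 h2
    exact h1 (cj_eq_bot hF h2)

/-- **Commuting**: `z` a root such that `cv z / |z|` is minimal. -/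
theorem comm_of_min [Fintype W] {z : I → ℤ} (hz : IsRoot cs h z)
    (hmin : ∀ z', IsRoot cs h z' → cv F z ^ 2 * form cs h z' z' ≤ cv F z' ^ 2 * form cs h z z)
    {y : I → ℤ} (hy : IsRoot cs h y) (hyz : y ≠ z) (hyz' : y ≠ -z) (h0 : 0 ≤ form cs h z y) {a b : Y}
    (ha : a ∈ F z (cv F z)) (hb : b ∈ X y) : a * b = b * a := by
  have hzz : (0 : ℝ) < form cs h z z := by exact_mod_cast form_pos cs h hz.ne_zero
  set f : I → ℝ := fun i => cv F z / form cs h z z * form cs h z (sr i) with hf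
  have hev : ∀ v : I → ℤ, ev f v = cv F z / form cs h z z * form cs h z v := by
    intro v
    have h1 : ((form cs h z v : ℤ) : ℝ) = ∑ i, (v i : ℝ) * form cs h z (sr i) := by
      rw [form_eq_sum]; push_cast; rfl
    rw [ev_apply, h1, Finset.mul_sum]
    refine Finset.sum_congr rfl fun i _ => ?_
    rw [hf]; ring
  have hcz := cv_pos hF hz
  have hevz : ev f z = cv F z := by
    rw [hev]; field_simp
  have hevy : 0 ≤ ev f y := by
    rw [hev]
    have : (0 : ℝ) ≤ form cs h z y := by exact_mod_cast h0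
    (clear * - h0 hzz hcz; positivity)
  have h1 := hF.comm f z y hz hy (Ne.symm hyz) (fun h2 => hyz' (by rw [h2, neg_neg])) (by rw [hevz]; exact hcz) hevy
    a (by rw [hevz]; exact ha) b hb
  have h2 : FS (fun z => F z (ev f z)) {z' | Btwn cs h z y z'} = ⊥ := by
    rw [eq_bot_iff]
    refine iSup_le ?_
    rintro ⟨z', hz'⟩
    show F z' (ev f z') ≤ ⊥
    rw [le_bot_iff]
    have hr : IsRoot cs h z' := hz'.1
    rcases le_or_gt (form cs h z z') 0 with h3 | h3
    · refine hF.neg z' _ hr ?_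
      rw [hev]
      have : ((form cs h z z' : ℤ) : ℝ) ≤ 0 := by exact_mod_cast h3
      exact mul_nonpos_of_nonneg_of_nonpos (by (clear * - h hzz hcz; positivity)) this
    · refine F_lt hF hr ?_
      -- `z'` is not proportional to `z`
      obtain ⟨-, m, α, β, hm, hα, hβ, he⟩ := hz'
      have hne : ∀ e : ℤ, z' ≠ e • z := by
        intro e h4
        rw [h4, smul_smul] at he
        have h5 : β • y = (m * e - α) • z := by
          rw [sub_smul, he]; abel
        rcases eq_or_neg hz hy hβ h5 with h6 | h6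
        · exact hyz h6
        · exact hyz' h6
      have hne1 : z' ≠ z := fun h4 => hne 1 (by rw [one_smul]; exact h4)
      have hne2 : z' ≠ -z := fun h4 => hne (-1) (by rw [neg_one_smul]; exact h4)
      have h4 := form_sq_lt hz hr hne1 hne2
      have h5 := hmin z' hr
      have h3' : (0 : ℝ) < form cs h z z' := by exact_mod_cast h3
      have h4' : ((form cs h z z' : ℤ) : ℝ) * form cs h z z' < form cs h z z * form cs h z' z' := by exact_mod_cast h4
      rw [hev]
      have hc' := cv_pos hF hr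
      have h6 : (cv F z / form cs h z z * form cs h z z') ^ 2 < cv F z' ^ 2 := by
        have h7 : (cv F z / form cs h z z * form cs h z z') ^ 2 * form cs h z z ^ 2 <
            cv F z' ^ 2 * form cs h z z ^ 2 := by
          have h8 : (cv F z / form cs h z z * form cs h z z') ^ 2 * form cs h z z ^ 2 =
              cv F z ^ 2 * (form cs h z z' * form cs h z z') := by
            field_simp
          rw [h8]
          calc cv F z ^ 2 * (form cs h z z' * form cs h z z')
              < cv F z ^ 2 * (form cs h z z * form cs h z' z') := by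
                exact mul_lt_mul_of_pos_left h4' (by positivity)
            _ = (cv F z ^ 2 * form cs h z' z') * form cs h z z := by ring
            _ ≤ (cv F z' ^ 2 * form cs h z z) * form cs h z z :=
                mul_le_mul_of_nonneg_right h5 hzz.le
            _ = _ := by ring
        exact lt_of_mul_lt_mul_right h7 (by (clear * - h hzz; positivity))
      exact lt_of_pow_lt_pow_left₀ 2 hc'.le h6
  rw [h2, Subgroup.mem_bot, commutatorElement_eq_one_iff_mul_comm] at h1
  exact h1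

end

/-- **The small root subgroups.** -/
theorem exists_Z [Finite W] [Fintype W] [Finite Y] (hF : Filt R F) [Nonempty I] :
    ∃ (x : I → ℤ) (Z : (I → ℤ) → Subgroup Y), IsRoot cs h x ∧ Dom A x ∧ Z x ≠ ⊥ ∧
      (∀ w : W, Z (rep cs h w x) ≤ X (rep cs h w x)) ∧
      (∀ w v : W, ∀ g : Y, Rp cs R.nsys v g → cj g (Z (rep cs h w x)) = Z (rep cs h v (rep cs h w x))) ∧
      (∀ w : W, ∀ y, IsRoot cs h y → y ≠ rep cs h w x → y ≠ -rep cs h w x → 0 ≤ form cs h (rep cs h w x) y →
        ∀ a ∈ Z (rep cs h w x), ∀ b ∈ X y, a * b = b * a) ∧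
      (∀ b ∈ RGD.B cs h T X, cj b (Z x) = Z x) := by
  classical
  -- minimal value
  have hfin : {x | IsRoot cs h x}.Finite := RGD.finite_roots (cs := cs) (h := h)
  have hne : {x | IsRoot cs h x}.Nonempty := ⟨sr (Classical.arbitrary I), isRoot_sr cs h _⟩
  obtain ⟨x₀, hx₀, hmin⟩ := Set.exists_min_image {x | IsRoot cs h x}
    (fun x => cv F x ^ 2 / form cs h x x) hfin hne
  obtain ⟨w₀, hw₀⟩ := exists_dom_rep (cs := cs) (h := h) x₀
  set x := rep cs h w₀ x₀ with hx
  have hxr : IsRoot cs h x := hx₀.act w₀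
  have hmin' : ∀ w : W, ∀ z', IsRoot cs h z' →
      cv F (rep cs h w x) ^ 2 * form cs h z' z' ≤ cv F z' ^ 2 * form cs h (rep cs h w x) (rep cs h w x) := by
    intro w z' hz'
    have h1 := hmin z' hz'
    have h2 : (0 : ℝ) < form cs h x₀ x₀ := by exact_mod_cast form_pos cs h (IsRoot.ne_zero hx₀)
    have h3 : (0 : ℝ) < form cs h z' z' := by exact_mod_cast form_pos cs h hz'.ne_zero
    rw [div_le_div_iff₀ h2 h3] at h1
    rw [cv_rep hF w hxr, form_rep, hx, cv_rep hF w₀ hx₀, form_rep]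
    exact h1
  refine ⟨x, fun z => F z (cv F x), hxr, hw₀, F_cv hF hxr, fun w => hF.le _ _ (hxr.act w), ?_, ?_, ?_⟩
  · intro w v g hg
    exact F_conj hF hg (hxr.act w) _
  · intro w y hy h1 h2 h3 a ha b hb
    refine comm_of_min hF (hxr.act w) (hmin' w) hy h1 h2 h3 ?_ hb
    rw [cv_rep hF w hxr]
    exact ha
  · have hB : RGD.B cs h T X ≤ Subgroup.normalizer (F x (cv F x) : Set Y) := by
      refine sup_le ?_ (RGD.Sup_le ?_)
      · intro t ht
        rw [mem_normalizer_iff_cj]
        exact hF.tor x _ hxr t ht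
      · intro y hy
        by_cases h1 : y = x
        · rw [h1]; exact hF.nrm x _ hxr
        · intro b hb
          have hyx : y ≠ -x := by
            intro h2
            have h3 := form_nonneg_of_dom cs h hw₀ hy.2
            rw [h2, form_neg_right] at h3
            have h4 := form_pos cs h hxr.ne_zero
            linarith only [h, h3, h4]
          have h5 : ∀ a ∈ F x (cv F x), a * b = b * a := by
            intro a ha
            have h6 := hmin' 1
            rw [map_one, Module.End.one_apply] at h6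
            exact comm_of_min hF hxr h6 hy.1 h1 hyx (form_nonneg_of_dom cs h hw₀ hy.2) ha hb
          rw [Subgroup.mem_normalizer_iff]
          intro a
          constructor
          · intro ha
            rw [← h5 a ha, mul_inv_cancel_right]; exact ha
          · intro ha
            have h7 := h5 _ ha
            have h8 : a = b * a * b⁻¹ := by
              have h9 : b * a * b⁻¹ * b = b * a := by group
              rw [h9] at h7
              have h10 := mul_left_cancel h7
              exact h10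
            rw [h8]; exact ha
    intro b hb
    exact mem_normalizer_iff_cj.1 (hB hb)

end Cfsg.Agent.H355.Rgd
end

-- part: H355/RgdElim
section
/-!
# No TI Hall subgroup `D` in groups with a root group datum of rank at least two (helper355)

`false_of_filt` : `G` simple with a filtered root group datum of characteristic `p`, such that every root `x` has an
orthogonal root: there is no subgroup `D` with `TIH D`.
-/

set_option autoImplicit false
set_option linter.unusedSectionVars false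

namespace Cfsg.Agent.H355.Rgd

open CoxeterSystem Cfsg.Agent.ChevalleyStructure.CoxeterGeom Cfsg.Agent.Tits.Roots Cfsg.Agent.Tits.Core
  Cfsg.Agent.Tits.RootComb Cfsg.Agent.Nodes.Comb Cfsg.Agent.Nodes.Reps Cfsg.Agent.Nodes.BNOf
  Cfsg.Agent.Nodes.Unique Cfsg.Agent.Nodes.Coroot Cfsg.Agent.KFacts.RgdBorelTits Cfsg.Agent.Nodes.Bruhat
  Cfsg.Agent.Nodes.OppDec Cfsg.Agent.Nodes.RGDLib
open TIHall

variable {I W Y : Type*} [Fintype I] [DecidableEq I] [Group W] [Group Y] {M : CoxeterMatrix I}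
  {cs : CoxeterSystem M W} {A : I → I → ℤ} {h : IsCartan M A} {p : ℕ} {T : Subgroup Y} {n : I → Y}
  {X : (I → ℤ) → Subgroup Y} {F : (I → ℤ) → ℝ → Subgroup Y}

theorem isPGroup_of_cj {g : Y} {K : Subgroup Y} (hK : IsPGroup p ↥(cj g K)) : IsPGroup p ↥K := by
  have h1 : IsPGroup p ↥(cj g⁻¹ (cj g K)) := hK.map _
  rwa [cj_inv_cj] at h1

theorem isPGroup_pair [Finite W] (R : RGD cs h p T n X) {y z : I → ℤ} (hy : IsRoot cs h y) (hz : IsRoot cs h z)
    (hne : z ≠ -y) : IsPGroup p ↥(X y ⊔ X z) := by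
  obtain ⟨w, h1, h2⟩ := exists_pos_pair hy hz hne
  obtain ⟨g, hg⟩ := exists_rp cs R.nsys w
  refine isPGroup_of_cj (g := g) ((R.isPGroup_Upos).to_le ?_)
  rw [cj_sup, R.conj_rp hg hy, R.conj_rp hg hz]
  exact sup_le (RGD.le_Sup (S := RGD.Pos cs h) ⟨hy.act w, h1⟩) (RGD.le_Sup (S := RGD.Pos cs h) ⟨hz.act w, h2⟩)

theorem even_card [Finite W] [Finite Y] (R : RGD cs h p T n X) (i : I) :
    Even (Nat.card ↥(X (sr i) ⊔ X (-sr i))) := by
  by_contra hodd
  rw [Nat.not_even_iff_odd] at hodd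
  obtain ⟨u, hu, hu1⟩ : ∃ u ∈ X (-sr i), u ≠ 1 := by
    have h1 := X_ne_bot R (isRoot_sr cs h i).neg
    obtain ⟨u, hu⟩ := Subgroup.ne_bot_iff_exists_ne_one.1 h1
    exact ⟨u.1, u.2, fun h3 => hu (Subtype.ext h3)⟩
  obtain ⟨a, ha, t, ht, b, hb, e⟩ := R.rk1 i u hu hu1
  set m : Y := t * n i with hm
  have hmK : m ∈ X (sr i) ⊔ X (-sr i) := by
    have h1 : m = a⁻¹ * u * b⁻¹ := by rw [e, hm]; group
    rw [h1]
    exact mul_mem (mul_mem (inv_mem (Subgroup.mem_sup_left ha)) (Subgroup.mem_sup_right hu))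
      (inv_mem (Subgroup.mem_sup_left hb))
  have hrp : Rp cs R.nsys (cs.simple i) m := by
    have h1 := (rp_of_mem (cs := cs) (hN := R.nsys) ht).mul (rp_simple cs R.nsys i)
    rwa [one_mul] at h1
  have c1 : cj m (X (sr i)) = X (-sr i) := by
    rw [R.conj_rp hrp (isRoot_sr cs h i), rep_simple_sr]
  have c2 : cj m (X (-sr i)) = X (sr i) := by
    rw [R.conj_rp hrp (isRoot_sr cs h i).neg, map_neg, rep_simple_sr, neg_neg]
  have c3 : ∀ k : ℕ, cj (m ^ (2 * k)) (X (sr i)) = X (sr i) := by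
    intro k
    induction k with
    | zero => rw [mul_zero, pow_zero, cj_one]
    | succ k ih => rw [mul_add, mul_one, pow_add, cj_mul, pow_two, cj_mul, c1, c2, ih]
  have hord : Odd (orderOf m) := by
    have h1 : orderOf (⟨m, hmK⟩ : ↥(X (sr i) ⊔ X (-sr i))) ∣ _ := orderOf_dvd_natCard _
    rw [Subgroup.orderOf_mk] at h1
    exact hodd.of_dvd_nat h1
  obtain ⟨k, hk⟩ := hord
  have h2 : cj (m ^ orderOf m) (X (sr i)) = X (-sr i) := by
    rw [hk, pow_succ', cj_mul, c3, c1]
  rw [pow_orderOf_eq_one, cj_one] at h2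
  have h3 := X_injective R (isRoot_sr cs h i) (isRoot_sr cs h i).neg h2
  have h4 := congrFun h3 i
  rw [Pi.neg_apply, sr_self] at h4
  exact absurd h4 (by decide)

theorem even_card_root [Finite W] [Finite Y] (R : RGD cs h p T n X) {β : I → ℤ} (hβ : IsRoot cs h β) :
    Even (Nat.card ↥(X β ⊔ X (-β))) := by
  obtain ⟨w, i, rfl⟩ := hβ
  obtain ⟨g, hg⟩ := exists_rp cs R.nsys w
  have h1 : X (rep cs h w (sr i)) ⊔ X (-rep cs h w (sr i)) = cj g (X (sr i) ⊔ X (-sr i)) := by
    rw [cj_sup, R.conj_rp hg (isRoot_sr cs h i), R.conj_rp hg (isRoot_sr cs h i).neg, map_neg]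
  rw [h1]
  have h2 : Nat.card ↥(cj g (X (sr i) ⊔ X (-sr i))) = Nat.card ↥(X (sr i) ⊔ X (-sr i)) :=
    Nat.card_congr ((X (sr i) ⊔ X (-sr i)).equivMapOfInjective _ (MulAut.conj g).injective).symm.toEquiv
  rw [h2]
  exact even_card R i

theorem dvd_card_of_mem [Finite Y] {D : Subgroup Y} [hp : Fact p.Prime] {K : Subgroup Y} (hK : IsPGroup p ↥K) {u g : Y}
    (hu : u ∈ K) (hu1 : u ≠ 1) (hg : g * u * g⁻¹ ∈ D) : p ∣ Nat.card D := by
  obtain ⟨k, hk⟩ := hK ⟨u, hu⟩
  have hk' : u ^ p ^ k = 1 := congrArg Subtype.val hk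
  obtain ⟨j, -, hj⟩ := (Nat.dvd_prime_pow hp.out).1 (orderOf_dvd_of_pow_eq_one hk')
  have h1 : orderOf (g * u * g⁻¹) = orderOf u := orderOf_injective (MulAut.conj g).toMonoidHom (MulAut.conj g).injective u
  have h2 := Subgroup.orderOf_dvd_natCard D hg
  rw [h1, hj] at h2
  refine dvd_trans (dvd_pow_self p ?_) h2
  intro h3
  rw [h3, pow_zero] at hj
  exact hu1 (orderOf_eq_one_iff.1 hj)

theorem odd_orderOf_of_isPGroup [hp : Fact p.Prime] (hp2 : p ≠ 2) {K : Subgroup Y} (hK : IsPGroup p ↥K) {u : Y}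
    (hu : u ∈ K) (g : Y) : Odd (orderOf (g * u * g⁻¹)) := by
  obtain ⟨k, hk⟩ := hK ⟨u, hu⟩
  have hk' : u ^ p ^ k = 1 := congrArg Subtype.val hk
  have h1 : orderOf (g * u * g⁻¹) = orderOf u := orderOf_injective (MulAut.conj g).toMonoidHom (MulAut.conj g).injective u
  rw [h1]
  exact ((hp.out.odd_of_ne_two hp2).pow).of_dvd_nat (orderOf_dvd_of_pow_eq_one hk')

theorem exists_ne_one' {K : Subgroup Y} (hK : K ≠ ⊥) : ∃ u ∈ K, u ≠ 1 := by
  obtain ⟨u, hu⟩ := Subgroup.ne_bot_iff_exists_ne_one.1 hK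
  exact ⟨u.1, u.2, fun h3 => hu (Subtype.ext h3)⟩

/-- a 2-subgroup of the normalizer of `D` has order at most two -/
theorem card_le_two [Finite Y] {D : Subgroup Y} (hD : TIH D) {Q : Subgroup Y} (hQ : IsPGroup 2 ↥Q) {g : Y}
    (hg : ∀ b ∈ Q, g * b * g⁻¹ ∈ Subgroup.normalizer (D : Set Y)) : Nat.card Q ≤ 2 := by
  have : Fact (Nat.Prime 2) := ⟨Nat.prime_two⟩
  have h1 : Nat.card (cj g Q) = Nat.card Q :=
    Nat.card_congr (Q.equivMapOfInjective _ (MulAut.conj g).injective).symm.toEquiv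
  have h2 : cj g Q ≤ Subgroup.normalizer (D : Set Y) := by
    rintro _ ⟨b, hb, rfl⟩
    exact hg b hb
  have h3 := Subgroup.card_dvd_of_le h2
  rw [h1, hD.card_normalizer] at h3
  obtain ⟨k, hk⟩ := hQ.exists_card_eq
  have h4 : (Nat.card Q).Coprime (Nat.card D) := by
    rw [hk]
    exact Nat.Coprime.pow_left _ (Nat.coprime_two_left.2 hD.odd)
  exact Nat.le_of_dvd (by decide) (h4.dvd_of_dvd_mul_right h3)

universe u

/-- **The elimination.** -/
theorem false_of_filt {G : Type u} [Group G] [Finite G] [IsSimpleGroup G] (hG : ¬ IsMulCommutative G) [Finite W]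
    [Fintype W] [hp : Fact p.Prime] [Nonempty I] {T : Subgroup G} {n : I → G} {X : (I → ℤ) → Subgroup G}
    {F : (I → ℤ) → ℝ → Subgroup G} {R : RGD cs h p T n X} (hF : Filt R F) (hG1 : G1 cs h X = ⊤)
    {D : Subgroup G} (hD : TIH D) (hDs : commutator D ≠ ⊤)
    (horth : ∀ x, IsRoot cs h x → ∃ β, IsRoot cs h β ∧ form cs h x β = 0) : False := by
  classical
  obtain ⟨x, Z, hx, hdom, hZ0, hZX, hZc, hcomm, hB⟩ := exists_Z hF
  have hone : rep cs h (1 : W) x = x := by rw [map_one, Module.End.one_apply]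
  have hxx := form_pos cs h hx.ne_zero
  -- orthogonal roots are not proportional
  have hnp : ∀ β, form cs h x β = 0 → β ≠ x ∧ β ≠ -x := by
    intro β hβ
    constructor
    · rintro rfl
      exact hxx.ne' hβ
    · rintro rfl
      rw [form_neg_right] at hβ
      omega
  have hcx : ∀ β, IsRoot cs h β → form cs h x β = 0 → ∀ a ∈ Z x, ∀ b ∈ X β, a * b = b * a := by
    intro β hβ h0 a ha b hb
    have h1 := hcomm 1 β hβ
    rw [hone] at h1
    exact h1 (hnp β h0).1 (hnp β h0).2 h0.ge a ha b hb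
  obtain ⟨s, hsZ, hs1⟩ := exists_ne_one' hZ0
  have hsX : s ∈ X x := by
    have := hZX 1
    rw [hone] at this
    exact this hsZ
  -- T1
  have hT1 : ¬ p ∣ Nat.card D := by
    intro hpD
    have hp2 : p ≠ 2 := by
      rintro rfl
      exact (Nat.not_even_iff_odd.2 hD.odd) (even_iff_two_dvd.2 hpD)
    obtain ⟨g, hg⟩ := hD.exists_conj_le hpD (R.pgrp' hx)
    obtain ⟨β, hβ, h0⟩ := horth x hx
    have hgs := hg s hsX
    have hgs1 : g * s * g⁻¹ ≠ 1 := by
      intro h1
      exact hs1 ((MulAut.conj g).injective (by rw [map_one]; exact h1))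
    have hmem : ∀ γ, IsRoot cs h γ → form cs h x γ = 0 → ∀ b ∈ X γ, g * b * g⁻¹ ∈ D := by
      intro γ hγ h0 b hb
      refine hD.mem_of_odd (hD.mem_normalizer_of_commute hgs hgs1 ?_) (odd_orderOf_of_isPGroup hp2 (R.pgrp' hγ) hb g)
      have h1 := hcx γ hγ h0 s hsZ b hb
      calc g * b * g⁻¹ * (g * s * g⁻¹) = g * (b * s) * g⁻¹ := by group
        _ = g * (s * b) * g⁻¹ := by rw [h1]
        _ = _ := by group
    have hle : cj g (X β ⊔ X (-β)) ≤ D := by
      rw [cj_sup]
      refine sup_le ?_ ?_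
      · rintro _ ⟨b, hb, rfl⟩
        exact hmem β hβ h0 b hb
      · rintro _ ⟨b, hb, rfl⟩
        exact hmem (-β) hβ.neg (by rw [form_neg_right, h0, neg_zero]) b hb
    have h1 := Subgroup.card_dvd_of_le hle
    have h2 : Nat.card (cj g (X β ⊔ X (-β))) = Nat.card ↥(X β ⊔ X (-β)) :=
      Nat.card_congr ((X β ⊔ X (-β)).equivMapOfInjective _ (MulAut.conj g).injective).symm.toEquiv
    rw [h2] at h1
    exact (Nat.not_even_iff_odd.2 (hD.odd.of_dvd_nat h1)) (even_card_root R hβ)
  -- the product theorem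
  have hout : ∀ c : G, c * s * c⁻¹ ∉ D := fun c hc => hT1 (dvd_card_of_mem (R.pgrp' hx) hsX hs1 hc)
  obtain ⟨a, c, hc, hne⟩ := Exc.exists_mul_mem hG hD hDs hs1 hs1 hout hout
  have haG : a ∈ GG cs h T X := by
    have h1 : G1 cs h X ≤ GG cs h T X := RGD.Sup_le fun y hy => X_le_GG hy
    rw [hG1] at h1
    exact h1 (Subgroup.mem_top a)
  obtain ⟨w, b₁, hb₁, k, hk, b₂, hb₂, rfl⟩ := (mem_GG R).1 haG
  -- move to the standard position
  have ht' : b₂ * s * b₂⁻¹ ∈ Z x := by
    have h1 := hB b₂ hb₂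
    rw [← h1]
    exact conj_mem_cj.2 hsZ
  have hs' : b₁⁻¹ * s * b₁ ∈ Z x := by
    have h1 := hB b₁⁻¹ (inv_mem hb₁)
    rw [← h1, mem_cj, inv_inv]
    have h2 : b₁ * (b₁⁻¹ * s * b₁) * b₁⁻¹ = s := by group
    rwa [h2]
  set t'' := k * (b₂ * s * b₂⁻¹) * k⁻¹ with ht''
  have htZ : t'' ∈ Z (rep cs h w x) := by
    have h1 := hZc 1 w k hk
    rw [hone] at h1
    rw [← h1]
    exact conj_mem_cj.2 ht'
  set s' := b₁⁻¹ * s * b₁ with hs'def
  have he : b₁ * k * b₂ * s * (b₁ * k * b₂)⁻¹ * s = b₁ * (t'' * s') * b₁⁻¹ := by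
    rw [ht'', hs'def]; group
  rw [he] at hc hne
  have hd : (c * b₁) * (t'' * s') * (c * b₁)⁻¹ ∈ D := by
    have h1 : (c * b₁) * (t'' * s') * (c * b₁)⁻¹ = c * (b₁ * (t'' * s') * b₁⁻¹) * c⁻¹ := by group
    rwa [h1]
  have hne' : t'' * s' ≠ 1 := by
    intro h1
    rw [h1] at hne
    exact hne (by group)
  have hd1 : (c * b₁) * (t'' * s') * (c * b₁)⁻¹ ≠ 1 := by
    intro h1
    exact hne' ((MulAut.conj (c * b₁)).injective (by rw [map_one]; exact h1))
  by_cases hw : rep cs h w x = -x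
  · -- opposite roots
    have hcent : ∀ β, IsRoot cs h β → form cs h x β = 0 → ∀ b ∈ X β,
        (c * b₁) * b * (c * b₁)⁻¹ ∈ Subgroup.normalizer (D : Set G) := by
      intro β hβ h0 b hb
      refine hD.mem_normalizer_of_commute hd hd1 ?_
      have h1 := hcx β hβ h0 s' hs' b hb
      have h0' : form cs h (rep cs h w x) β = 0 := by rw [hw, form_neg_left, h0, neg_zero]
      have h2 := hcomm w β hβ (by rw [hw]; exact (hnp β h0).2) (by rw [hw, neg_neg]; exact (hnp β h0).1) h0'.ge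
        t'' htZ b hb
      have h3 : b * (t'' * s') = t'' * s' * b := by
        calc b * (t'' * s') = (b * t'') * s' := (mul_assoc _ _ _).symm
          _ = (t'' * b) * s' := by rw [h2]
          _ = t'' * (b * s') := mul_assoc _ _ _
          _ = t'' * (s' * b) := by rw [h1]
          _ = _ := (mul_assoc _ _ _).symm
      calc (c * b₁) * b * (c * b₁)⁻¹ * ((c * b₁) * (t'' * s') * (c * b₁)⁻¹) =
          (c * b₁) * (b * (t'' * s')) * (c * b₁)⁻¹ := by group
        _ = (c * b₁) * (t'' * s' * b) * (c * b₁)⁻¹ := by rw [h3]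
        _ = _ := by group
    by_cases hp2 : p = 2
    · subst hp2
      obtain ⟨β, hβ, h0⟩ := horth x hx
      obtain ⟨u, hu, hu1⟩ := exists_ne_one' (X_ne_bot R hβ)
      obtain ⟨v, hv, hv1⟩ := exists_ne_one' (X_ne_bot R hβ.neg)
      have h0n : form cs h x (-β) = 0 := by rw [form_neg_right, h0, neg_zero]
      have hD2 : ∀ {K : Subgroup G} {z : G}, IsPGroup 2 ↥K → z ∈ K → z ≠ 1 → ∀ g : G, g * z * g⁻¹ ∉ D := by
        intro K z hK hz hz1 g hg
        exact hT1 (dvd_card_of_mem hK hz hz1 hg)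
      have h1 := hcent β hβ h0 u hu
      have h2 := hcent (-β) hβ.neg h0n v hv
      have h3 := hD.mul_mem_of_notMem h1 (hD2 (R.pgrp' hβ) hu hu1 _) h2 (hD2 (R.pgrp' hβ.neg) hv hv1 _)
      have h4 : c * b₁ * u * (c * b₁)⁻¹ * (c * b₁ * v * (c * b₁)⁻¹) = c * b₁ * (u * v) * (c * b₁)⁻¹ := by group
      rw [h4] at h3
      have huv : u * v ≠ 1 := by
        intro h5
        have h6 : u = v⁻¹ := eq_inv_of_mul_eq_one_left h5
        have h7' : u ∈ X (-β) := by rw [h6]; exact (X (-β)).inv_mem hv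
        have h7 : u ∈ X β ⊓ X (-β) := ⟨hu, h7'⟩
        rw [X_inf_X R hβ hβ.neg (fun h8 => by
          have h9 : (2 : ℤ) • β = 0 := by
            rw [two_smul]; nth_rw 1 [h8]; exact neg_add_cancel β
          exact hβ.ne_zero ((smul_eq_zero.1 h9).resolve_left (by decide))), Subgroup.mem_bot] at h7
        exact hu1 h7
      have huv1 : c * b₁ * (u * v) * (c * b₁)⁻¹ ≠ 1 := by
        intro h5
        exact huv ((MulAut.conj (c * b₁)).injective (by rw [map_one]; exact h5))
      have hs'1 : s' ≠ 1 := by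
        intro h5
        apply hs1
        have h6 : s = b₁ * s' * b₁⁻¹ := by rw [hs'def]; group
        rw [h6, h5]; group
      have hs'u := hcx β hβ h0 s' hs' u hu
      have hs'v := hcx (-β) hβ.neg h0n s' hs' v hv
      have h5 : (c * b₁) * s' * (c * b₁)⁻¹ ∈ Subgroup.normalizer (D : Set G) := by
        refine hD.mem_normalizer_of_commute h3 huv1 ?_
        have h6 : s' * (u * v) = u * v * s' := by rw [← mul_assoc, hs'u, mul_assoc, hs'v, mul_assoc]
        calc (c * b₁) * s' * (c * b₁)⁻¹ * (c * b₁ * (u * v) * (c * b₁)⁻¹) =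
            (c * b₁) * (s' * (u * v)) * (c * b₁)⁻¹ := by group
          _ = (c * b₁) * (u * v * s') * (c * b₁)⁻¹ := by rw [h6]
          _ = _ := by group
      have hsX' : s' ∈ X x := by
        have := hZX 1
        rw [hone] at this
        exact this hs'
      set Q : Subgroup G := Subgroup.closure {s', u} with hQdef
      have hsQ : s' ∈ Q := Subgroup.subset_closure (by simp)
      have huQ : u ∈ Q := Subgroup.subset_closure (by simp)
      have hQle : Q ≤ X x ⊔ X β := by
        rw [hQdef, Subgroup.closure_le]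
        rintro z (rfl | rfl)
        · exact Subgroup.mem_sup_left hsX'
        · exact Subgroup.mem_sup_right hu
      have hQ2 : IsPGroup 2 ↥Q := (isPGroup_pair R hx hβ (hnp β h0).2).to_le hQle
      have hQ3 : Nat.card Q ≤ 2 := by
        refine card_le_two (g := c * b₁) hD hQ2 ?_
        have h6 : Q ≤ (Subgroup.normalizer (D : Set G)).comap (MulAut.conj (c * b₁)).toMonoidHom := by
          rw [hQdef, Subgroup.closure_le]
          rintro z (rfl | rfl)
          · exact h5
          · exact h1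
        exact fun b hb => h6 hb
      have hzQ : Subgroup.zpowers s' ≤ Q := Subgroup.zpowers_le.2 hsQ
      have hzQ' : Subgroup.zpowers s' = Q := by
        refine Subgroup.eq_of_le_of_card_ge hzQ (le_trans hQ3 ?_)
        by_contra h6
        push Not at h6
        have h7 := Subgroup.card_le_one_iff_eq_bot _ |>.1 (by omega : Nat.card (Subgroup.zpowers s') ≤ 1)
        rw [Subgroup.zpowers_eq_bot] at h7
        exact hs'1 h7
      have h8 : u ∈ X x ⊓ X β := by
        refine ⟨?_, hu⟩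
        rw [← hzQ'] at huQ
        exact (Subgroup.zpowers_le.2 hsX') huQ
      rw [X_inf_X R hx hβ (Ne.symm (hnp β h0).1), Subgroup.mem_bot] at h8
      exact hu1 h8
    · obtain ⟨β, hβ, h0⟩ := horth x hx
      obtain ⟨b, hb, hb1⟩ := exists_ne_one' (X_ne_bot R hβ)
      have h1 := hD.mem_of_odd (hcent β hβ h0 b hb) (odd_orderOf_of_isPGroup hp2 (R.pgrp' hβ) hb (c * b₁))
      exact hT1 (dvd_card_of_mem (R.pgrp' hβ) hb hb1 h1)
  · -- not opposite: a `p`-element
    have hQ := isPGroup_pair R hx (hx.act w) hw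
    have htX : t'' ∈ X (rep cs h w x) := hZX w htZ
    have hsX' : s' ∈ X x := by
      have := hZX 1
      rw [hone] at this
      exact this hs'
    exact hT1 (dvd_card_of_mem hQ (mul_mem (Subgroup.mem_sup_right htX) (Subgroup.mem_sup_left hsX')) hne' hd)

end Cfsg.Agent.H355.Rgd
end

-- part: H355/FiltOf
section
/-!
# Filtered root group data with a given Coxeter matrix (helper355)

`FiltOf M p G`, `FiltOf.of_equiv`, `FiltOf.false` : no TI Hall subgroups `D` for the types of rank at least three and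
for the types of rank two different from `A₂`.
-/

set_option autoImplicit false
set_option linter.unusedSectionVars false

namespace Cfsg.Agent.H355.Rgd

open CoxeterSystem Cfsg.Agent.ChevalleyStructure.CoxeterGeom Cfsg.Agent.Tits.Roots Cfsg.Agent.Tits.Core
  Cfsg.Agent.Nodes.BNOf Cfsg.Agent.KFacts.RgdBorelTits Cfsg.Agent.KFacts.RgdFilt
open TIHall

/-- `G` has a filtered root group datum of type `M` and characteristic `p` -/
def FiltOf {l : ℕ} (M : CoxeterMatrix (Fin l)) (p : ℕ) (G : Type*) [Group G] : Prop :=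
  ∃ (A : Fin l → Fin l → ℤ) (h : IsCartan M A) (T : Subgroup G) (n : Fin l → G)
    (X : (Fin l → ℤ) → Subgroup G) (R : RGD M.toCoxeterSystem h p T n X) (F : (Fin l → ℤ) → ℝ → Subgroup G),
    Finite M.Group ∧ Nodes.RGDLib.G1 M.toCoxeterSystem h X = ⊤ ∧ Filt R F

theorem FiltOf.of_equiv {l : ℕ} {M : CoxeterMatrix (Fin l)} {p : ℕ} {G H : Type*} [Group G] [Group H] [Finite G]
    (e : G ≃* H) (hG : FiltOf M p G) : FiltOf M p H := by
  obtain ⟨A, h, T, n, X, R, F, hW, hX, hF⟩ := hG
  refine ⟨A, h, T.map e.toMonoidHom, fun i => e (n i), fun x => (X x).map e.toMonoidHom,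
    Nodes.RGDLib.rgd_map_of_injective R e.toMonoidHom e.injective, fun x s => (F x s).map e.toMonoidHom, hW, ?_,
    filt_map hF e.toMonoidHom _⟩
  have h1 : (Nodes.RGDLib.G1 M.toCoxeterSystem h X).map e.toMonoidHom =
      Nodes.RGDLib.G1 M.toCoxeterSystem h (fun x => (X x).map e.toMonoidHom) := by
    unfold Nodes.RGDLib.G1 RGD.Sup
    rw [Subgroup.map_iSup]
  rw [← h1, hX, Subgroup.map_top_of_surjective _ e.surjective]

universe u

/-- **No TI Hall subgroups `D`** for the types of rank at least two, `A₂` excepted. -/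
theorem FiltOf.false {l : ℕ} {M : CoxeterMatrix (Fin l)} {p : ℕ} [Fact p.Prime] {G : Type u} [Group G] [Finite G]
    [IsSimpleGroup G] (hG : ¬ IsMulCommutative G) (hM : FiltOf M p G)
    (hl : 3 ≤ l ∨ (l = 2 ∧ ∀ i j, M i j ≠ 3)) {D : Subgroup G} (hD : TIH D) (hDs : commutator D ≠ ⊤) : False := by
  classical
  obtain ⟨A, h, T, n, X, R, F, hW, hX, hF⟩ := hM
  have : Fintype M.Group := Fintype.ofFinite _
  rcases hl with hl | ⟨rfl, hM⟩
  · have : Nonempty (Fin l) := ⟨⟨0, by omega⟩⟩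
    exact false_of_filt hG hF hX hD hDs fun x hx => exists_orth (by rw [Fintype.card_fin]; exact hl) hx
  · exact false_of_filt hG hF hX hD hDs fun x hx =>
      exists_orth_rank_two (i := 0) (j := 1) (by decide) (by intro k; (revert k; simp only [_root_.Fin.forall_fin_succ, Fin.isValue, _root_.zero_ne_one, _root_.or_false, _root_.Fin.succ_ne_zero, _root_.false_or, _root_.Fin.succ_zero_eq_one, _root_.IsEmpty.forall_iff, _root_.and_self])) (hM 0 1) hx

end Cfsg.Agent.H355.Rgd
end

-- part: H355/FiltClass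
section
/-!
# The families with a filtered root group datum, with their types (helper355)
-/

set_option autoImplicit false
set_option linter.unusedSectionVars false

namespace Cfsg.Agent.H355.Rgd

open Cfsg Cfsg.Agent.ChevalleyStructure.CoxeterGeom Cfsg.Agent.Tits.Roots
open Cfsg.Agent.Nodes.Comb Cfsg.Agent.Nodes.Reps Cfsg.Agent.Nodes.WittRoot Cfsg.Agent.Nodes.BNOf
open Cfsg.Agent.Nodes.RGDLib Cfsg.Agent.Nodes.WittAll
open Cfsg.Agent.TitsThree Cfsg.Agent.TitsThree.Siegel Cfsg.Agent.TitsThree.WittFrame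
  Cfsg.Agent.TitsThree.WittWeyl Cfsg.Agent.TitsThree.FrameCN
open Cfsg.Agent.KFacts.RgdBorelTits Cfsg.Agent.KFacts.RgdFilt Cfsg.Agent.KFacts.RgdFiltWitt
  Cfsg.Agent.KFacts.RgdFiltClass

/-- simply laced diagrams -/
theorem filtOf_of_sl {p : ℕ} {G : Type*} [Group G] {l : ℕ} {M : CoxeterMatrix (Fin l)} {A : Fin l → Fin l → ℤ}
    {h : IsCartan M A} {T : Subgroup G} {n : Fin l → G} {X : (Fin l → ℤ) → Subgroup G}
    (hW : Finite M.Group) (R : RGD M.toCoxeterSystem h p T n X) (hX : G1 M.toCoxeterSystem h X = ⊤)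
    (h4 : ∀ i j, M i j ≠ 4) (h6 : ∀ i j, M i j ≠ 6) : FiltOf M p G :=
  ⟨A, h, T, n, X, R, F2 X X, hW, hX, (intComm_of_sl R (sl_of_ne h4 h6)).filt⟩

section TypeC

open Cfsg.Agent.Nodes.TypeC

variable {F : Type*} [Field F] {V : Type*} [AddCommGroup V] [Module F V] {H : HForm F V} {n : ℕ}
  {Fr : Frame H (Fin n)} {K : Type*} [Group K] (M : Model Fr K) {p : ℕ}

theorem filtOf_C (hA : AmbT Fr p M.I) [Finite V] [Fact p.Prime] [CharP F p] {p0 : Fr.Adm} (hp0 : p0.c ≠ 0)
    (hn : 0 < n) : FiltOf (CoxeterMatrix.B n) p K := by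
  have : Finite (V ≃ₗ[F] V) := Finite.of_injective (fun g : V ≃ₗ[F] V => (g : V → V)) DFunLike.coe_injective
  have hF : Filt (rgdC hA hp0 (CoxeterMatrix.B n).toCoxeterSystem) (F2 (zr Fr) (rg Fr)) :=
    (two hA (T := Nodes.WittRGD.Tor Fr M.I) (fun i => ⟨nn_mem hA p0 i, Nodes.WittRGD.mono_nn hp0 i⟩)
      (fun _ ht => ⟨ht.1, ht.2⟩) _).filt
  have hF1 := filt_restrict hF M.I (fun x _ => hA.rg_le x)
    (n' := fun i => (⟨Nodes.WittRGD.nn Fr p0 i, nn_mem hA p0 i⟩ : M.I)) (fun _ => rfl)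
    (rgd_restrict (rgdC hA hp0 _) M.I (fun x _ => hA.rg_le x) (fun i => nn_mem hA p0 i))
  have hF2 := filt_map hF1 M.φ (rgdC_model M hA hp0 (CoxeterMatrix.B n).toCoxeterSystem)
  exact ⟨A n, isCartan n, _, _, _, rgdC_model M hA hp0 _, _,
    finite_W (CoxeterMatrix.B n).toCoxeterSystem, Nodes.WittModel.G1_eq_top _ hn _, hF2⟩

end TypeC

theorem filtOf_PSL {F : Type*} [Field F] [Finite F] (n : ℕ) {p : ℕ} [Fact p.Prime] [CharP F p] :
    FiltOf (Cfsg.Agent.LieRecognition.BNCox.cA n) p (Matrix.ProjectiveSpecialLinearGroup (Fin (n + 1)) F) := by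
  have hc : ∀ i j : Fin n, Cfsg.Agent.LieRecognition.BNCox.cA n i j ≤ 3 := by
    intro i j
    rw [Cfsg.Agent.LieRecognition.BNCox.cA_apply]
    show (if (i : ℕ) = j then 1 else if (i : ℕ) + 1 = j ∨ (j : ℕ) + 1 = i then 3 else 2) ≤ 3
    split_ifs <;> norm_num
  have hW : Finite (Cfsg.Agent.LieRecognition.BNCox.cA n).Group :=
    Nodes.RootsA.finite_W (Cfsg.Agent.LieRecognition.BNCox.cA n).toCoxeterSystem (Nodes.RootsA.isCartan n)
  exact filtOf_of_sl (h := Nodes.RootsA.isCartan n) hW (Nodes.RGDTypeA.rgd_psl _ _)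
    (Nodes.RGDTypeA.G1_psl_eq_top _ _)
    (fun i j h => by have := hc i j; omega) (fun i j h => by have := hc i j; omega)

open Cfsg.Agent.Nodes.WittU Cfsg.Agent.Nodes.WittInst

theorem filtOf_PSU {F : Type*} [Field F] [Fintype F] {q N : ℕ} (hF : Fintype.card F = q ^ 2) (hN : 3 ≤ N) {p : ℕ}
    [Fact p.Prime] [CharP F p] : ∃ m, (N = 2 * m ∨ N = 2 * m + 1) ∧ FiltOf (CoxeterMatrix.B m) p (PSU N F q) := by
  obtain ⟨m, hm⟩ : ∃ m, N = 2 * m ∨ N = 2 * m + 1 := ⟨N / 2, by omega⟩
  obtain ⟨W, -⟩ := exists_wframe hF hm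
  obtain ⟨p0, hp0, -⟩ := exists_adm hF W
  exact ⟨m, hm, filtOf_C (KInstU.model hF hN W) (AmbT.of_amb (amb_U hF W) p) hp0 (by omega)⟩

theorem filtOf_PSp {F : Type*} [Field F] [Finite F] {m : ℕ} (hm : 1 ≤ m) {p : ℕ}
    [Fact p.Prime] [CharP F p] : FiltOf (CoxeterMatrix.B m) p (PSp m F) :=
  filtOf_C (KInstSp.model m F) (AmbT.of_amb amb_Sp p) (p0 := SpIdent.adm 1) one_ne_zero hm

section Orthogonal

open QuadraticMap
open Cfsg.Agent.LieClassical Cfsg.Agent.LieClassical.OrthCore Cfsg.Agent.LieClassical.OrthTrans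
open Cfsg.Agent.LieClassical.OrthSimple Cfsg.Agent.LieClassical.OrthFinite
open Cfsg.Agent.LieClassical.OrthForms
open Cfsg.Agent.TitsThree.WBridge Cfsg.Agent.TitsThree.KSideO Cfsg.Agent.TitsThree.StdData

variable {F : Type*} [Field F] {m : ℕ}

theorem filtOf_PO_odd [Finite F] (h2 : (2 : F) ≠ 0) (hm : 2 ≤ m) {p : ℕ} [Fact p.Prime] [CharP F p] :
    FiltOf (CoxeterMatrix.B m) p (Cfsg.POmega F (Cfsg.quadFormOdd m F)) := by
  rw [← coe_oddForm]
  have hG : _root_.Cfsg.Agent.LieClassical.OrthTrans.Good (oddForm m F) := by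
    apply good_of_finite (nondeg_oddForm m F h2)
    rw [Module.finrank_fintype_fun_eq_card, Fintype.card_sum, Fintype.card_sum, Fintype.card_fin,
      Fintype.card_unit]
    omega
  have hp : ((embOdd m F).ngt ⟨1, -1 ^ 2, rfl⟩).c ≠ 0 := by
    change (1 : F)⁻¹ * (-1 ^ 2) ≠ 0
    simp
  exact filtOf_C (model (wodd m F) hG ⟨_, hp⟩) (AmbT.of_amb (amb_O_of_two _ h2) p) hp (by omega)

theorem filtOf_PO_minus [Finite F] (a b : F)
    (hab : ∀ z₁ z₂ : F, z₁ ^ 2 + a * z₁ * z₂ + b * z₂ ^ 2 = 0 → z₁ = 0 ∧ z₂ = 0)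
    (hm : 2 ≤ m) {p : ℕ} [Fact p.Prime] [CharP F p] :
    FiltOf (CoxeterMatrix.B m) p (Cfsg.POmega F (Cfsg.quadFormMinus m F a b)) := by
  rw [← coe_minusForm]
  have hG : _root_.Cfsg.Agent.LieClassical.OrthTrans.Good (minusForm m F a b) := by
    apply good_of_finite (nondeg_minusForm m F a b hab)
    rw [Module.finrank_fintype_fun_eq_card, Fintype.card_sum, Fintype.card_sum, Fintype.card_fin,
      Fintype.card_fin]
    omega
  have hp : ((embMinus m F a b hab).ngt ⟨(1, 0), -nf a b (1, 0), rfl⟩).c ≠ 0 := by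
    change (1 : F)⁻¹ * (-nf a b (1, 0)) ≠ 0
    simp [nf]
  have hA : AmbT (toFrame (wminus m F a b hab)) p (E (minusForm m F a b)) := by
    by_cases h2 : (2 : F) = 0
    · have hp2 : p = 2 := by
        have h3 : CharP F 2 := CharTwo.of_one_ne_zero_of_two_eq_zero one_ne_zero h2
        exact CharP.eq F ‹CharP F p› h3
      subst hp2
      exact ambT_O _ fun g hg hg2 hb => fixp_minus a b hab h2 hm hG hg hg2 hb
    · exact AmbT.of_amb (amb_O_of_two _ h2) p
  exact filtOf_C (model (wminus m F a b hab) hG ⟨_, hp⟩) hA hp (by omega)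

theorem filtOf_PO_plus [Finite F] (n : ℕ) {p : ℕ} [Fact p.Prime] [CharP F p] :
    FiltOf (Nodes.TypeD.M (n + 1)) p (Cfsg.POmega F (Cfsg.quadFormPlus (n + 3) F)) := by
  rw [← coe_plusForm]
  have hG : _root_.Cfsg.Agent.LieClassical.OrthTrans.Good (plusForm (n + 3) F) := by
    apply good_of_finite (nondeg_plusForm (n + 3) F)
    rw [Module.finrank_fintype_fun_eq_card, Fintype.card_sum, Fintype.card_fin]
    omega
  have hc : ∀ i j : Fin (n + 1 + 2), Nodes.TypeD.M (n + 1) i j ≤ 3 := by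
    intro i j
    show (if i = j then 1 else if Nodes.TypeD.Adj i j ∨ Nodes.TypeD.Adj j i then 3 else 2) ≤ 3
    split_ifs <;> norm_num
  exact filtOf_of_sl (Nodes.TypeD.finite_W (Nodes.TypeD.M (n + 1)).toCoxeterSystem)
    (rgdD_model (wplus (n + 3) F) hG (amb_plus _) (adm_plus _) _)
    (G1D_eq_top (wplus (n + 3) F) (toPOmega hG) (toPOmega_surjective hG) (adm_plus _) _)
    (fun i j h => by have := hc i j; omega) (fun i j h => by have := hc i j; omega)

end Orthogonal

/-! ### exceptional groups -/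

section Exceptional

open CoxeterSystem Cfsg.Lie Cfsg.Agent.ChevalleyStructure Cfsg.Agent.ChevalleyStructure.RootVecTab
  Cfsg.Agent.ChevalleyStructure.CoxeterGeomTypes
open Cfsg.Agent.Nodes Cfsg.Agent.Nodes.RGDChev Cfsg.Agent.KFacts.RgdFiltChev

theorem filtOf_group {D : ChevalleyDatum} {l : ℕ} {M : CoxeterMatrix (Fin l)} (hp : IsType D l M) (K : Type*)
    [Field K] [Finite K] (p : ℕ) [CharP K p] : FiltOf M p ↥(D.group K) := by
  have : Fact p.Prime := ⟨CharP.char_is_prime K p⟩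
  exact ⟨cartanOf D l, hp.isCartan, _, _, _, rgd (K := K) hp M.toCoxeterSystem p, _,
    finite_W hp M.toCoxeterSystem, G1_eq_top hp _, filt hp M.toCoxeterSystem p⟩

end Exceptional

section Twisted

open CoxeterSystem Cfsg.Lie Cfsg.Agent.ChevalleyStructure Cfsg.Agent.Nodes Cfsg.Agent.Nodes.RGDTwGen
  Cfsg.Agent.Nodes.RGDFold Cfsg.Agent.ChevalleyStructure.RootVecTab Cfsg.Agent.ChevalleyStructure.Elts
  Cfsg.Agent.KFacts.RgdFiltTwAll Cfsg.Agent.ChevalleyStructure.CoxeterGeomTypes Cfsg.Agent.Nodes.RGDChev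

theorem filtOf_fold {D : ChevalleyDatum} {l : ℕ} {M' : CoxeterMatrix (Fin l)} {hp : IsType D l M'} {K : Type*}
    [Field K] {m : ℕ} {M : CoxeterMatrix (Fin m)} {A : Fin m → Fin m → ℤ}
    {J : Fin m → List (Fin l)} {L : List (List ℕ)} {σ : GL D.Idx K →* GL D.Idx K} {ρ ρ' : ℕ → ℕ}
    {f : ℕ → K → K} {G : Subgroup (GL D.Idx K)} (FD : FoldData D M A J L)
    (FG : FoldGrp hp K J L σ ρ ρ' f G) [Finite K] (p : ℕ) [CharP K p] (h : IsCartan M A) : FiltOf M p ↥G := by
  have : Fact p.Prime := ⟨CharP.char_is_prime K p⟩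
  exact ⟨A, h, _, _, _, _root_.Cfsg.Agent.Nodes.RGDFold.rgd M.toCoxeterSystem h FD FG p, _, _root_.Cfsg.Agent.Nodes.RGDFold.finite_W (hp := hp) M.toCoxeterSystem h FD,
    _root_.Cfsg.Agent.Nodes.RGDFold.G1_eq_top M.toCoxeterSystem h FD FG p, filt_fold M.toCoxeterSystem h FD FG p⟩

theorem filtOf_twD4 {K : Type*} [Field K] [Fintype K] {q : ℕ} (hq : IsPrimePow q) (hK : Fintype.card K = q ^ 3)
    (p : ℕ) [CharP K p] : FiltOf CoxeterMatrix.G₂ p ↥(twistedD4 K q) := by
  obtain ⟨φ, hφ⟩ := D4Fixed.exists_frob hq hK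
  exact filtOf_fold RGDTwD4.foldData (RGDTwD4.foldGrp hφ (D4Fixed.twisted_le_fix hK hφ)) p RGDTwD4.isCartan

theorem filtOf_twE6 {K : Type*} [Field K] [Fintype K] {q : ℕ} (hq : IsPrimePow q) (hK : Fintype.card K = q ^ 2)
    (p : ℕ) [CharP K p] : FiltOf CoxeterMatrix.F₄ p ↥(twistedE6 K q) := by
  obtain ⟨φ, hφ, hqq⟩ := TwE6Basic.exists_frob hq hK
  exact filtOf_fold RGDTwE6.foldData (RGDTwE6.foldGrp hφ hqq) p RGDTwE6.isCartan

end Twisted

end Cfsg.Agent.H355.Rgd
end
end
end
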