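import Cfsg.Agent.H355.Fixity
import Cfsg.Agent.LieExceptional.SuzukiSylow
set_option linter.all false

/-!
# Fixity two actions of the Suzuki groups: point stabilizers of even order
-/

set_option autoImplicit false

namespace Cfsg.Agent.H355.SzEven

open Cfsg Cfsg.Agent.LieExceptional Cfsg.Agent.LieExceptional.SuzukiBasic
open Cfsg.Agent.LieExceptional.SuzukiSylow MulAction

/-- the square of a permutation of a set with at most two elements is trivial -/
theorem sq_smul_eq {G : Type*} [Group G] {Ω : Type*} [MulAction G Ω] {Y : Set Ω} (hY : Y.Finite)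
    (hc : Y.ncard ≤ 2) {x : G} (hx : ∀ a ∈ Y, x • a ∈ Y) {a : Ω} (ha : a ∈ Y) : x ^ 2 • a = a := by
  classical
  have h1 := hx a ha
  have h2 := hx _ h1
  rw [pow_two, mul_smul]
  by_contra hne
  have h3 : x • a ≠ a := by
    intro h; rw [h, h] at hne; exact hne rfl
  have h4 : x • x • a ≠ x • a := fun h => h3 (smul_left_cancel x h)
  have hsub : ({a, x • a, x • x • a} : Set Ω) ⊆ Y := by
    rintro z (rfl | rfl | rfl)
    · exact ha
    · exact h1
    · exact h2
  have h5 := Set.ncard_le_ncard hsub hY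
  have h6 : ({a, x • a, x • x • a} : Set Ω).ncard = 3 := by
    rw [Set.ncard_eq_three]
    exact ⟨a, x • a, x • x • a, h3.symm, Ne.symm hne, h4.symm, rfl⟩
  omega

/-- an element of odd order acting on a set with at most two elements is trivial -/
theorem odd_smul_eq {G : Type*} [Group G] [Finite G] {Ω : Type*} [MulAction G Ω] {Y : Set Ω}
    (hY : Y.Finite) (hc : Y.ncard ≤ 2) {x : G} (ho : Odd (orderOf x)) (hx : ∀ a ∈ Y, x • a ∈ Y)
    {a : Ω} (ha : a ∈ Y) : x • a = a := by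
  obtain ⟨k, hk⟩ := ho
  have h1 := sq_smul_eq hY hc hx ha
  have h2 : (x ^ 2) ^ k • a = a := by
    have : x ^ 2 ∈ stabilizer G a := h1
    exact (stabilizer G a).pow_mem this k
  have h3 : x ^ (2 * k + 1) • a = x • a := by
    rw [pow_succ', mul_smul, pow_mul, h2]
  rw [← hk, pow_orderOf_eq_one, one_smul] at h3
  exact h3.symm

variable {F : Type*} [Field F] [Fintype F] {m : ℕ}

/-- the torus elements -/
def hh (hF : Fintype.card F = 2 ^ (2 * m + 1)) (k : Fˣ) : Sz F m := ⟨H m k, H_mem hF k⟩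

/-- the Weyl element -/
def ww (hF : Fintype.card F = 2 ^ (2 * m + 1)) : Sz F m := ⟨W F, W_mem hF⟩

theorem hh_mul (hF : Fintype.card F = 2 ^ (2 * m + 1)) (k l : Fˣ) : hh hF k * hh hF l = hh hF (k * l) :=
  Subtype.ext (H_mul m k l)

theorem hh_one (hF : Fintype.card F = 2 ^ (2 * m + 1)) : hh hF (1 : Fˣ) = 1 :=
  Subtype.ext (H_one m)

theorem hh_inv (hF : Fintype.card F = 2 ^ (2 * m + 1)) (k : Fˣ) : (hh hF k)⁻¹ = hh hF k⁻¹ :=
  Subtype.ext (H_inv m k)

theorem hh_pow (hF : Fintype.card F = 2 ^ (2 * m + 1)) (k : Fˣ) (n : ℕ) :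
    hh hF k ^ n = hh hF (k ^ n) := by
  induction n with
  | zero => rw [pow_zero, pow_zero, hh_one]
  | succ n ih => rw [pow_succ, ih, hh_mul, pow_succ]

theorem hh_eq_iff (hF : Fintype.card F = 2 ^ (2 * m + 1)) (k l : Fˣ) :
    hh hF k = hh hF l ↔ k = l := by
  rw [← H_eq_H_iff hF]
  exact Subtype.ext_iff

theorem ww_mul_hh (hF : Fintype.card F = 2 ^ (2 * m + 1)) (k : Fˣ) :
    ww hF * hh hF k = hh hF k⁻¹ * ww hF := Subtype.ext (W_mul_H m k)

theorem hh_mul_u (hF : Fintype.card F = 2 ^ (2 * m + 1)) (k : Fˣ) (a b : F) :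
    hh hF k * u hF a b = u hF (k * a) ((k : F) ^ (2 ^ (m + 1) + 1) * b) * hh hF k :=
  Subtype.ext (H_mul_U hF k a b)

theorem odd_orderOf_hh (hF : Fintype.card F = 2 ^ (2 * m + 1)) (k : Fˣ) :
    Odd (orderOf (hh hF k)) := by
  have h1 : hh hF k ^ (2 ^ (2 * m + 1) - 1) = 1 := by
    rw [hh_pow, ← hh_one hF, hh_eq_iff]
    apply Units.ext
    rw [Units.val_pow_eq_pow_val, ← hF]
    exact FiniteField.pow_card_sub_one_eq_one (k : F) k.ne_zero
  have h2 := orderOf_dvd_of_pow_eq_one h1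
  apply Odd.of_dvd_nat _ h2
  have : 2 ∣ 2 ^ (2 * m + 1) := dvd_pow_self 2 (by omega)
  have h3 : 1 ≤ 2 ^ (2 * m + 1) := Nat.one_le_two_pow
  rw [← Nat.not_even_iff_odd, even_iff_two_dvd]
  omega

/-- the centre of `Q` consists of squares -/
theorem exists_sq (hF : Fintype.card F = 2 ^ (2 * m + 1)) (c : F) :
    ∃ a : F, u hF a 0 ^ 2 = u hF 0 c := by
  by_cases hc : c = 0
  · refine ⟨0, ?_⟩
    rw [hc, u_zero_zero, one_pow]
  · obtain ⟨k, -, hk⟩ := exists_pow_sigma_add_one hF c hc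
    refine ⟨k, ?_⟩
    rw [sq, u_mul, u_eq_iff, add_self hF, zero_add, zero_add, ← pow_succ]
    exact ⟨rfl, hk⟩

theorem commute_u (hF : Fintype.card F = 2 ^ (2 * m + 1)) (a b c : F) :
    u hF 0 c * u hF a b = u hF a b * u hF 0 c := by
  rw [u_mul, u_mul, u_eq_iff]
  refine ⟨by ring, ?_⟩
  rw [zero_pow (by positivity)]
  ring

theorem exists_conj_involution (hm : 1 ≤ m) (hF : Fintype.card F = 2 ^ (2 * m + 1)) (t : Sz F m)
    (ht : orderOf t = 2) : ∃ (g : Sz F m) (b : F), b ≠ 0 ∧ g * t * g⁻¹ = u hF 0 b := by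
  classical
  have : Fact (Nat.Prime 2) := ⟨Nat.prime_two⟩
  have hp : IsPGroup 2 (Subgroup.zpowers t) := by
    apply IsPGroup.of_card (n := 1)
    rw [Nat.card_zpowers, ht, pow_one]
  obtain ⟨P, hP⟩ := hp.exists_le_sylow
  obtain ⟨g, hg⟩ := exists_smul_eq (Sz F m) P (sylowQ hm hF)
  have h1 : g * t * g⁻¹ ∈ Q hF := by
    have h2 : g * t * g⁻¹ ∈ ((g • P : Sylow 2 (Sz F m)) : Subgroup (Sz F m)) := by
      rw [Sylow.coe_subgroup_smul]
      exact ⟨t, hP (Subgroup.mem_zpowers t), rfl⟩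
    rw [hg] at h2
    exact h2
  obtain ⟨a, b, hab⟩ := h1
  have hsq : (g * t * g⁻¹) ^ 2 = 1 := by
    rw [sq]
    have : t ^ 2 = 1 := by rw [← ht]; exact pow_orderOf_eq_one t
    calc g * t * g⁻¹ * (g * t * g⁻¹) = g * t ^ 2 * g⁻¹ := by rw [sq]; group
      _ = 1 := by rw [this]; group
  rw [hab, sq, u_mul, ← u_zero_zero hF, u_eq_iff] at hsq
  have ha : a = 0 := by
    have h3 := hsq.2
    rw [add_self hF, zero_add, ← pow_succ] at h3
    exact pow_eq_zero_iff (by positivity) |>.1 h3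
  refine ⟨g, b, ?_, by rw [hab, ha]⟩
  rintro rfl
  rw [ha, u_zero_zero] at hab
  have : t = 1 := by
    have h4 : t = g⁻¹ * (g * t * g⁻¹) * g := by group
    rw [h4, hab]; group
  rw [this, orderOf_one] at ht
  omega

/-- **Even case**: a point stabilizer of even order is a Borel subgroup. -/
theorem even_case (hm : 1 ≤ m) (hF : Fintype.card F = 2 ^ (2 * m + 1)) {Ω : Type*} [Finite Ω]
    [MulAction (Sz F m) Ω] [FaithfulSMul (Sz F m) Ω] (htr : IsPretransitive (Sz F m) Ω)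
    (hfix : ∀ g : Sz F m, g ≠ 1 → Nat.card (fixedBy Ω g) ≤ 2) (α : Ω)
    (h2 : 2 ∣ Nat.card (stabilizer (Sz F m) α)) :
    ∃ α' : Ω, stabilizer (Sz F m) α' = stabilizer (Sz F m)
      (⟨suzukiPointInfinity F, infinity_mem_ovoid m⟩ : suzukiOvoid F m) := by
  classical
  have : Fact (Nat.Prime 2) := ⟨Nat.prime_two⟩
  obtain ⟨t₀, ht₀⟩ := exists_prime_orderOf_dvd_card' 2 h2
  obtain ⟨g, b, hb, hgt⟩ := exists_conj_involution hm hF (t₀ : Sz F m)
    (by rw [Subgroup.orderOf_coe]; exact ht₀)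
  set t : Sz F m := u hF 0 b with ht
  have ht1 : t ≠ 1 := by
    rw [ht, ← u_zero_zero hF]
    intro h
    rw [u_eq_iff] at h
    exact hb h.2
  set β : Ω := g • α with hβ
  set Y : Set Ω := fixedBy Ω t with hYdef
  have hβY : β ∈ Y := by
    rw [hYdef, mem_fixedBy, ← hgt, hβ, ← mul_smul, inv_mul_cancel_right, mul_smul, t₀.2]
  have hYfin : Y.Finite := Set.toFinite _
  have hYc : Y.ncard ≤ 2 := by
    rw [← Nat.card_coe_set_eq]; exact hfix t ht1
  -- elements commuting with `t` preserve `Y`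
  have hcomm : ∀ x : Sz F m, t * x = x * t → ∀ a ∈ Y, x • a ∈ Y := by
    intro x hx a ha
    rw [hYdef, mem_fixedBy, ← mul_smul, hx, mul_smul, ha]
  have hU : ∀ a c : F, ∀ y ∈ Y, u hF a c • y ∈ Y := fun a c => hcomm _ (commute_u hF a c b)
  -- the centre of `Q` fixes `Y` pointwise
  have hZ : ∀ c : F, ∀ y ∈ Y, u hF 0 c • y = y := by
    intro c y hy
    obtain ⟨a, ha⟩ := exists_sq hF c
    rw [← ha]
    exact sq_smul_eq hYfin hYc (hU a 0) hy
  have hHY : ∀ k : Fˣ, ∀ y ∈ Y, hh hF k • y ∈ Y := by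
    intro k y hy
    have h3 : t * hh hF k = hh hF k * u hF 0 (((k⁻¹ : Fˣ) : F) ^ (2 ^ (m + 1) + 1) * b) := by
      have h4 := hh_mul_u hF k⁻¹ 0 b
      rw [mul_zero] at h4
      have h5 : hh hF k * (hh hF k⁻¹ * u hF 0 b) * hh hF k = t * hh hF k := by
        rw [← hh_inv, ht]; group
      rw [← h5, h4, ← hh_inv]
      group
    rw [hYdef, mem_fixedBy, ← mul_smul, h3, mul_smul, hZ _ y hy]
  have hHfix : ∀ k : Fˣ, ∀ y ∈ Y, hh hF k • y = y := fun k y hy =>
    odd_smul_eq hYfin hYc (odd_orderOf_hh hF k) (hHY k) hy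
  -- a nontrivial unit
  obtain ⟨k0, hk0⟩ : ∃ k0 : Fˣ, k0 ≠ 1 := by
    have h8 : 2 ^ 3 ≤ 2 ^ (2 * m + 1) := Nat.pow_le_pow_right (by norm_num) (by omega)
    have : Nontrivial Fˣ := by
      rw [← Fintype.one_lt_card_iff_nontrivial, Fintype.card_units, hF]
      omega
    exact exists_ne 1
  have hhk0 : hh hF k0 ≠ 1 := by
    intro h
    rw [← hh_one hF, hh_eq_iff] at h
    exact hk0 h
  refine ⟨β, ?_⟩
  by_cases hY1 : ∃ γ ∈ Y, γ ≠ β
  · exfalso
    obtain ⟨γ, hγY, hγ⟩ := hY1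
    have hYsub : Y ⊆ fixedBy Ω (hh hF k0) := fun y hy => hHfix k0 y hy
    have hYe : Y = fixedBy Ω (hh hF k0) := by
      apply Set.eq_of_subset_of_ncard_le hYsub
      · rw [← Nat.card_coe_set_eq (s := fixedBy Ω (hh hF k0))]
        refine (hfix _ hhk0).trans ?_
        rw [← Set.ncard_pair hγ]
        apply Set.ncard_le_ncard _ hYfin
        rintro z (rfl | rfl)
        · exact hγY
        · exact hβY
    have hWY : ∀ y ∈ Y, ww hF • y ∈ Y := by
      intro y hy
      have h6 : hh hF k0 * ww hF = ww hF * hh hF k0⁻¹ := by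
        rw [ww_mul_hh, inv_inv]
      rw [hYe, mem_fixedBy, ← mul_smul, h6, mul_smul, hHfix _ y hy]
    have hall : ∀ x : Sz F m, ∀ y ∈ Y, x • y ∈ Y := by
      intro x y hy
      rcases bruhat hm hF x.2 with ⟨a, c, k, hx⟩ | ⟨a, c, k, d, e, hx⟩
      · have : x = u hF a c * hh hF k := Subtype.ext hx
        rw [this, mul_smul]
        exact hU _ _ _ (hHY _ _ hy)
      · have : x = u hF a c * ww hF * hh hF k * u hF d e := Subtype.ext hx
        rw [this, mul_smul, mul_smul, mul_smul]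
        exact hU _ _ _ (hWY _ (hHY _ _ (hU _ _ _ hy)))
    apply hhk0
    apply FaithfulSMul.eq_of_smul_eq_smul (α := Ω)
    intro z
    obtain ⟨x, rfl⟩ := exists_smul_eq (Sz F m) β z
    rw [one_smul]
    exact hHfix k0 _ (hall x _ hβY)
  · push Not at hY1
    have hUβ : ∀ a c : F, u hF a c • β = β := fun a c => hY1 _ (hU a c _ hβY)
    have hle : stabilizer (Sz F m)
        (⟨suzukiPointInfinity F, infinity_mem_ovoid m⟩ : suzukiOvoid F m) ≤
        stabilizer (Sz F m) β := by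
      intro x hx
      have hx' : (x : Matrix.SpecialLinearGroup (Fin 4) F) • suzukiPointInfinity F =
          suzukiPointInfinity F := congrArg Subtype.val hx
      obtain ⟨a, c, k, hx2⟩ := eq_U_mul_H_of_fix_infinity hm hF x.2 hx'
      have : x = u hF a c * hh hF k := Subtype.ext hx2
      rw [mem_stabilizer_iff, this, mul_smul, hHfix _ _ hβY, hUβ]
    have hprim : IsPreprimitive (Sz F m) (suzukiOvoid F m) :=
      isPreprimitive_of_is_two_pretransitive (two_pretransitive hF)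
    have hnt : Nontrivial (suzukiOvoid F m) :=
      ⟨⟨⟨suzukiPointInfinity F, infinity_mem_ovoid m⟩, ⟨suzukiPointZero F, zero_mem_ovoid m⟩,
        fun h => zero_ne_infinity (congrArg Subtype.val h).symm⟩⟩
    have hco := IsPreprimitive.isCoatom_stabilizer_of_isPreprimitive (G := Sz F m)
      (⟨suzukiPointInfinity F, infinity_mem_ovoid m⟩ : suzukiOvoid F m)
    rcases hco.le_iff.1 hle with h | h
    · exfalso
      apply hhk0
      apply FaithfulSMul.eq_of_smul_eq_smul (α := Ω)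
      intro z
      obtain ⟨x, rfl⟩ := exists_smul_eq (Sz F m) β z
      have hx : x • β = β := by
        rw [← mem_stabilizer_iff, h]; trivial
      rw [hx, one_smul]
      exact hHfix k0 _ hβY
    · exact h

end Cfsg.Agent.H355.SzEven
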